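import Cfsg.Agent.Cit.Nil.Unbal.Down
import Cfsg.Agent.Cit.Nil.ROne.Bridge
import Cfsg.Agent.Cit.Nil.RG.Tri
import Cfsg.Agent.OddHalf.D4.Spor.HeSheet
import Cfsg.Agent.KFacts.He.Outer
import Cfsg.Agent.PermutationGroups.AutQuaternion
import Cfsg.Agent.Schreier.Tools
import Cfsg.Agent.SignalizersComponents.CompBasic
import Cfsg.Agent.Omega.NoFF.ThmJFam

/-!
# S1309, unbalanced groups: the Held group

* `card_SS` : `n ≥ 1` members over `z` generate a group of order `2 * 4 ^ n`;
* `false_of_perfect` : `K` in a perfect group which centralises `zz K`, at most 4 members over `zz K`: impossible;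
* `held` : the world `W3` is impossible for `F*(G) ≃ He`.
-/

set_option autoImplicit false
set_option linter.style.haveILetI false
set_option linter.unusedSectionVars false

namespace Cfsg.Agent.Cit.Nil.Unbal.Held

open Subgroup Cfsg Cit Nil Nil.RG QuaternionGroup
open scoped commutatorElement

section count

variable {G : Type*} [Group G] [Finite G] {Om : Set (Subgroup G)} {z : G}

theorem SS_insert {K : Subgroup G} {𝒦 : Set (Subgroup G)} : SS (insert K 𝒦) = K ⊔ SS 𝒦 := by
  apply le_antisymm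
  · refine SS_le ?_
    rintro L (rfl | hL)
    · exact le_sup_left
    · exact (le_SS hL).trans le_sup_right
  · exact sup_le (le_SS (Set.mem_insert _ _)) (SS_mono (Set.subset_insert _ _))

/-- the order of the group generated by members over `z` -/
theorem card_SS (h : WR Om) : ∀ (n : ℕ) (𝒦 : Set (Subgroup G)), 𝒦.ncard = n + 1 → 𝒦 ⊆ Ov Om z →
    Nat.card (SS 𝒦) = 2 * 4 ^ (n + 1) := by
  intro n
  induction n with
  | zero =>
    intro 𝒦 hn h𝒦
    obtain ⟨K, rfl⟩ := Set.ncard_eq_one.1 hn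
    have h1 : SS {K} = K := by
      apply le_antisymm
      · refine SS_le ?_
        rintro L rfl
        exact le_rfl
      · exact le_SS rfl
    rw [h1, h.card (h𝒦 rfl).1]; norm_num
  | succ n ih =>
    intro 𝒦 hn h𝒦
    obtain ⟨K, hK⟩ : 𝒦.Nonempty := by
      rw [Set.nonempty_iff_ne_empty]; rintro rfl; rw [Set.ncard_empty] at hn; omega
    have h1 := Set.ncard_sdiff_singleton_add_one hK (Set.toFinite 𝒦)
    have h2 : (𝒦 \ {K}).ncard = n + 1 := by omega
    have h3 := ih (𝒦 \ {K}) h2 (Set.sdiff_subset.trans h𝒦)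
    have h4 : SS 𝒦 = K ⊔ SS (𝒦 \ {K}) := by
      rw [← SS_insert, Set.insert_sdiff_singleton, Set.insert_eq_of_mem hK]
    have hcom : K ≤ centralizer (SS (𝒦 \ {K}) : Set G) := by
      intro k hk
      rw [mem_centralizer_iff]
      intro w hw
      refine (SS_comm (x := k) (fun L hL l hl => ?_) hw).symm
      exact h.Ov_comm (h𝒦 hK) (h𝒦 hL.1) (fun h1 => hL.2 h1.symm) hk hl
    have h5 := Omega.NoFF.ThmJFam.card_sup_inf hcom
    obtain ⟨L, hL⟩ : (𝒦 \ {K}).Nonempty := by
      rw [Set.nonempty_iff_ne_empty]; intro h6; rw [h6, Set.ncard_empty] at h2; omega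
    have hz1 : z ≠ 1 := h.zz_ne ⟨K, h𝒦 hK⟩
    have hzz : z * z = 1 := h.zz_sq ⟨K, h𝒦 hK⟩
    have h6 : K ⊓ SS (𝒦 \ {K}) = zpowers z := by
      apply le_antisymm
      · rintro x ⟨hx, hx'⟩
        have hx2 : x ∈ SS (𝒦 \ {K}) := hx'
        rcases h.SS_inf (h𝒦 hK) (Set.sdiff_subset.trans h𝒦) (fun h7 : K ∈ 𝒦 \ {K} => h7.2 rfl) hx hx2 with rfl | rfl
        · exact one_mem _
        · exact mem_zpowers _
      · rw [zpowers_le]
        exact ⟨h.Ov_mem (h𝒦 hK), h.zz_SS hL (Set.sdiff_subset.trans h𝒦)⟩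
    have h7 : Nat.card (zpowers z) = 2 := by
      rw [Nat.card_zpowers]
      exact orderOf_eq_prime (by rw [pow_two]; exact hzz) hz1
    rw [← h4, h6, h7, h3, h.card (h𝒦 hK).1] at h5
    have h8 : (4 : ℕ) ^ (n + 1 + 1) = 4 ^ (n + 1) * 4 := pow_succ 4 (n + 1)
    omega

/-- at most 4 members over `z` -/
theorem ncard_le (h : WR Om) {P : Subgroup G} (hP : ∀ K ∈ Ov Om z, K ≤ P) (hc : ¬ 2048 ∣ Nat.card P) :
    (Ov Om z).ncard ≤ 4 := by
  by_contra h1
  push Not at h1
  obtain ⟨n, hn⟩ : ∃ n, (Ov Om z).ncard = n + 1 := ⟨(Ov Om z).ncard - 1, by omega⟩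
  have h2 := card_SS h n (Ov Om z) hn le_rfl
  have h3 : Nat.card (SS (Ov Om z)) ∣ Nat.card P := card_dvd_of_le (SS_le hP)
  apply hc
  refine (Dvd.dvd.trans ?_ h3)
  rw [h2]
  obtain ⟨m, rfl⟩ : ∃ m, n = m + 4 := ⟨n - 4, by omega⟩
  exact ⟨4 ^ m, by rw [show m + 4 + 1 = m + 5 by ring, pow_add]; ring⟩

theorem solvable_mulAut {K : Subgroup G} (e : K ≃* QuaternionGroup 2) : Group.IsSolvable (MulAut K) := by
  have h1 : Nat.card (MulAut K) = 2 ^ 3 * 3 ^ 1 := by
    rw [Nat.card_congr (MulAut.congr e).toEquiv, PermutationGroups.AutQuaternion.card_mulAut]; norm_num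
  have : Finite (MulAut K) := Nat.finite_of_card_ne_zero (by rw [h1]; norm_num)
  exact S0144.result 2 3 3 1 Nat.prime_two Nat.prime_three h1

/-- **a perfect group centralising `z` centralises the members over `z`** (at most 4 members) -/
theorem comm_of_perfect (h : WR Om) {P K : Subgroup G} (hP : ⁅P, P⁆ = P) (hPz : ∀ p ∈ P, p * z = z * p)
    (hK : K ∈ Ov Om z) (hr : (Ov Om z).ncard ≤ 4) : ∀ p ∈ P, ∀ k ∈ K, p * k = k * p := by
  have hn : ∀ p ∈ P, cj p K = K := by
    let f : P →* Equiv.Perm (Ov Om z) :=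
      { toFun := fun p =>
          { toFun := fun L => ⟨cj (p : G) L, h.Ov_cj' L.2 (hPz p p.2)⟩
            invFun := fun L => ⟨cj (p : G)⁻¹ L, h.Ov_cj' L.2 (hPz _ (inv_mem p.2))⟩
            left_inv := fun L => Subtype.ext (by
              change cj (p : G)⁻¹ (cj (p : G) L) = L
              rw [← cj_mul, inv_mul_cancel, cj_one])
            right_inv := fun L => Subtype.ext (by
              change cj (p : G) (cj (p : G)⁻¹ L) = L
              rw [← cj_mul, mul_inv_cancel, cj_one]) }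
        map_one' := by
          ext L
          change _ ∈ cj (1 : G) L ↔ _
          rw [cj_one]; rfl
        map_mul' := fun p q => by
          ext L
          change _ ∈ cj ((p : G) * q) L ↔ _ ∈ cj (p : G) (cj (q : G) L)
          rw [cj_mul] }
    intro p hp
    have h1 := Schreier.Tools.perm_eq_one hP (by rwa [Nat.card_coe_set_eq]) f ⟨p, hp⟩ ⟨K, hK⟩
    exact congrArg Subtype.val h1
  have hPK : P ≤ normalizer (K : Set G) := fun p hp => mem_normalizer_iff_cj.2 (hn p hp)
  let ψ : P →* MulAut K := (normalizerMonoidHom K).comp (inclusion hPK)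
  haveI := solvable_mulAut (h.q8 K hK.1).some
  intro p hp k hk
  have h1 := Schreier.Tools.hom_eq_one hP ψ ⟨p, hp⟩
  have h2 : p * k * p⁻¹ = k := congrArg (fun α : MulAut K => ((α ⟨k, hk⟩ : K) : G)) h1
  rw [mul_inv_eq_iff_eq_mul] at h2
  exact h2

end count

/-! ### The Held group -/

section he

open Cfsg.Agent.SporadicRecognition.HeldModel Cfsg.Agent.KFacts.He.Lv

/-- the property of an involution `t` used below -/
def Fact (X : Type*) [Group X] (t : X) : Prop :=
  ∀ Q : Subgroup X, Q ≤ centralizer {t} → IsPGroup 2 Q → (∀ c, c * t = t * c → ∀ q ∈ Q, c * q * c⁻¹ ∈ Q) →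
    (∀ q ∈ Q, q * q = 1) ∨ (Nat.card Q ∣ 128 ∧ ⁅centralizer {t}, centralizer {t}⁆ = centralizer ({t} : Set X) ∧
      ∀ p, p * t = t * p → (∀ c, c * t = t * c → p * c = c * p) → p = 1 ∨ p = t)

theorem Fact.congr {X Y : Type*} [Group X] [Group Y] (e : X ≃* Y) {t : X} (h : Fact X t) : Fact Y (e t) := by
  intro Q hQ h2 hc
  have hmem : ∀ x : X, x ∈ centralizer {t} ↔ e x ∈ centralizer {e t} := by
    intro x
    rw [mem_centralizer_singleton_iff, mem_centralizer_singleton_iff, ← map_mul, ← map_mul]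
    exact ⟨fun h => congrArg e h, fun h => e.injective h⟩
  have hcm : (centralizer {t}).map e.toMonoidHom = centralizer {e t} := by
    ext y
    constructor
    · rintro ⟨x, hx, rfl⟩
      exact (hmem x).1 hx
    · intro hy
      refine ⟨e.symm y, (hmem _).2 ?_, e.apply_symm_apply y⟩
      rwa [e.apply_symm_apply]
  have hcard : Nat.card (Q.comap e.toMonoidHom) = Nat.card Q := by
    have h3 : (Q.comap e.toMonoidHom).map e.toMonoidHom = Q := map_comap_eq_self_of_surjective e.surjective Q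
    rw [← card_map_of_injective (f := e.toMonoidHom) e.injective, h3]
  rcases h (Q.comap e.toMonoidHom) (fun x hx => (hmem x).2 (hQ hx))
    (h2.comap_of_injective e.toMonoidHom e.injective) (by
      intro c hc' q hq
      change e (c * q * c⁻¹) ∈ Q
      rw [map_mul, map_mul, map_inv]
      exact hc (e c) (by rw [← map_mul, ← map_mul, hc']) _ hq) with h3 | ⟨h3, h4, h5⟩
  · left
    intro q hq
    have h4 := h3 (e.symm q) (by
      change e (e.symm q) ∈ Q
      rwa [e.apply_symm_apply])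
    have h5 := congrArg e h4
    rwa [map_mul, e.apply_symm_apply, map_one] at h5
  · right
    refine ⟨by rwa [hcard] at h3, ?_, ?_⟩
    · rw [← hcm, ← map_commutator, h4]
    · intro p hp hpc
      rcases h5 (e.symm p) (by
        apply e.injective
        rw [map_mul, map_mul, e.apply_symm_apply]; exact hp) (by
          intro c hc'
          apply e.injective
          rw [map_mul, map_mul, e.apply_symm_apply]
          exact hpc _ (by rw [← map_mul, ← map_mul, hc'])) with h6 | h6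
      · left
        have := congrArg e h6
        rwa [e.apply_symm_apply, map_one] at this
      · right
        have := congrArg e h6
        rwa [e.apply_symm_apply] at this

/-- the class of `z` -/
theorem fact_z : Fact Cfsg.Spor.He KFacts.He.Bound.z := by
  intro Q hQ h2 hc
  right
  have h1 := KFacts.TwoSix.Sheet.sheet_of KFacts.He.Hyp.hyp.inj
  rw [KFacts.He.Hyp.hyp.map_zz, KFacts.He.Hyp.hyp.range] at h1
  refine ⟨?_, h1.perf, ?_⟩
  · rw [← h1.cardR]
    exact card_dvd_of_le (h1.core Q hQ h2 fun p hp y hy => hc p (mem_centralizer_singleton_iff.1 hp) y hy)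
  · intro p hp hpc
    exact h1.cR p (mem_centralizer_singleton_iff.2 hp) fun r hr =>
      hpc r (mem_centralizer_singleton_iff.1 (h1.RP hr))

/-- the class of `a`: an invariant 2-subgroup of `C(a)` is elementary abelian -/
theorem sq_a (Q : Subgroup Cfsg.Spor.He) (hQ : Q ≤ centralizer {(gn .a : Cfsg.Spor.He)}) (h2 : IsPGroup 2 Q)
    (hc : ∀ c : Cfsg.Spor.He, c * gn .a = gn .a * c → ∀ q ∈ Q, c * q * c⁻¹ ∈ Q) : ∀ q ∈ Q, q * q = 1 := by
  have hA := OddHalf.D4.Spor.HeSheet.twoA
  set L := KFacts.He.TwoACent.L with hL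
  set V := KFacts.He.TwoACent.V with hV
  have hcV : ∀ x ∈ V, ∀ y ∈ V, x * y = y * x := fun x hx y hy => hA.comm x (hA.VL hx) y hy
  have hLa : ∀ l ∈ L, l * gn .a = gn .a * l := fun l hl => hA.comm l hl _ hA.vV
  -- `Q ⊓ L ≤ V`
  have hQL : Q ⊓ L ≤ V := by
    rcases hA.simp (Q ⊓ L) inf_le_right (fun l hl n hn =>
      ⟨hc l (hLa l hl) n hn.1, L.mul_mem (L.mul_mem hl hn.2) (L.inv_mem hl)⟩) with h3 | h3
    · exact h3
    · exfalso
      have h4 : L ≤ Q := by rw [← h3]; exact inf_le_left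
      have h5 : IsPGroup 2 L := h2.to_le h4
      haveI := KFacts.He.Hyp.finHe
      haveI : _root_.Fact (Nat.Prime 2) := ⟨Nat.prime_two⟩
      haveI : Group.IsNilpotent L := h5.isNilpotent
      haveI : Group.IsSolvable L := inferInstance
      have h6 := Schreier.Tools.hom_eq_one hA.perf (MonoidHom.id L) ⟨gn .a, hA.VL hA.vV⟩
      exact hA.v1 (congrArg Subtype.val h6)
  have hQV : ∀ q ∈ Q, q ∈ V := by
    intro q hq
    refine hA.cen q fun l hl => ?_
    have h3 := OddHalf.D4.Spor.HeOf.eq_of_central hA.perf hcV hA.comm (MulAut.conj q).toMonoidHom (by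
      intro l hl
      refine hQL ⟨?_, ?_⟩
      · have h4 := hc l (hLa l hl) q⁻¹ (Q.inv_mem hq)
        have h5 := Q.mul_mem hq h4
        have h6 : (MulAut.conj q).toMonoidHom l * l⁻¹ = q * (l * q⁻¹ * l⁻¹) := by
          simp [mul_assoc]
        rwa [h6]
      · exact L.mul_mem (hA.norm q (mem_centralizer_singleton_iff.1 (hQ hq)) l hl) (L.inv_mem hl)) l hl
    have h4 : q * l * q⁻¹ = l := by simpa using h3
    rwa [mul_inv_eq_iff_eq_mul] at h4
  intro q hq
  rcases KFacts.He.TwoACent.V_eq (hQV q hq) with h3 | h3 | h3 | h3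
  · rw [h3, one_mul]
  · rw [h3, hA.vv]
  · rw [h3, KFacts.He.TwoACent.v_mul_self]
  · have h4 := hcV _ KFacts.He.TwoACent.v_mem_V _ hA.vV
    rw [h3]
    calc KFacts.He.TwoACent.v * gn .a * (KFacts.He.TwoACent.v * gn .a) =
        KFacts.He.TwoACent.v * (gn .a * KFacts.He.TwoACent.v) * gn .a := by group
      _ = (KFacts.He.TwoACent.v * KFacts.He.TwoACent.v) * (gn .a * gn .a) := by rw [← h4]; group
      _ = 1 := by rw [KFacts.He.TwoACent.v_mul_self, hA.vv, one_mul]

theorem fact_a : Fact Cfsg.Spor.He (gn .a) := fun Q hQ h2 hc => Or.inl (sq_a Q hQ h2 hc)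

/-- every involution of the Held group -/
theorem fact {X : Type*} [Group X] (h : Cfsg.Spor.IsoHe X) {t : X} (ht : t * t = 1) (h1 : t ≠ 1) : Fact X t := by
  obtain ⟨e⟩ := h
  have hs : e t * e t = 1 := by rw [← map_mul, ht, map_one]
  have hs1 : e t ≠ 1 := fun h2 => h1 (by
    have := congrArg e.symm h2
    rwa [e.symm_apply_apply, map_one] at this)
  have key : ∀ (u g : Cfsg.Spor.He), g * u * g⁻¹ = e t → Fact Cfsg.Spor.He u → Fact X t := by
    intro u g hg hu
    have h2 := (hu.congr (MulAut.conj g)).congr e.symm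
    rw [MulAut.conj_apply, hg, e.symm_apply_apply] at h2
    exact h2
  rcases KFacts.He.Classes.two_classes_a hs hs1 with ⟨g, hg⟩ | ⟨g, hg⟩
  · exact key _ g hg fact_z
  · exact key _ g hg fact_a

/-- `O(C(t)) = 1` -/
def Bal (X : Type*) [Group X] (t : X) : Prop :=
  ∀ I : Subgroup X, (∀ i ∈ I, i * t = t * i) → (∀ c, c * t = t * c → ∀ i ∈ I, c * i * c⁻¹ ∈ I) →
    Odd (Nat.card I) → I = ⊥

theorem Bal.congr {X Y : Type*} [Group X] [Group Y] (e : X ≃* Y) {t : X} (h : Bal X t) : Bal Y (e t) := by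
  intro I hI hc ho
  have h3 : (I.comap e.toMonoidHom).map e.toMonoidHom = I := map_comap_eq_self_of_surjective e.surjective I
  have hcard : Nat.card (I.comap e.toMonoidHom) = Nat.card I := by
    rw [← card_map_of_injective (f := e.toMonoidHom) e.injective, h3]
  have h4 := h (I.comap e.toMonoidHom) (fun i hi => e.injective (by
    rw [map_mul, map_mul]; exact hI _ hi)) (by
      intro c hc' i hi
      change e (c * i * c⁻¹) ∈ I
      rw [map_mul, map_mul, map_inv]
      exact hc (e c) (by rw [← map_mul, ← map_mul, hc']) _ hi) (by rwa [hcard])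
  rw [← h3, h4, Subgroup.map_bot]

theorem bal_a : Bal Cfsg.Spor.He (gn .a) := by
  intro I hI hc ho
  have hA := OddHalf.D4.Spor.HeSheet.twoA
  set L := KFacts.He.TwoACent.L with hL
  set V := KFacts.He.TwoACent.V with hV
  haveI := KFacts.He.Hyp.finHe
  have hcV : ∀ x ∈ V, ∀ y ∈ V, x * y = y * x := fun x hx y hy => hA.comm x (hA.VL hx) y hy
  have hLa : ∀ l ∈ L, l * gn .a = gn .a * l := fun l hl => hA.comm l hl _ hA.vV
  have hcop : ∀ x ∈ I, x ∈ V → x = 1 := by
    intro x hx hxV
    have h1 : Nat.Coprime (Nat.card I) (Nat.card V) := by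
      rw [hA.cardV]
      exact Nat.Coprime.pow_right 2 ho.coprime_two_right
    exact (Subgroup.disjoint_def.1 (Subgroup.disjoint_of_coprime_natCard h1)) hx hxV
  have hIL : ∀ x ∈ I, x ∈ L → x = 1 := by
    intro x hx hxL
    rcases hA.simp (I ⊓ L) inf_le_right (fun l hl n hn =>
      ⟨hc l (hLa l hl) n hn.1, L.mul_mem (L.mul_mem hl hn.2) (L.inv_mem hl)⟩) with h3 | h3
    · exact hcop x hx (h3 ⟨hx, hxL⟩)
    · exfalso
      have h4 : gn .a ∈ I := by
        have : gn .a ∈ I ⊓ L := by rw [h3]; exact hA.VL hA.vV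
        exact this.1
      exact hA.v1 (hcop _ h4 hA.vV)
  rw [eq_bot_iff]
  intro q hq
  rw [mem_bot]
  refine hcop q hq (hA.cen q fun l hl => ?_)
  have h1 : q * l * q⁻¹ * l⁻¹ = 1 := by
    refine hIL _ ?_ ?_
    · have h4 := hc l (hLa l hl) q⁻¹ (I.inv_mem hq)
      have h5 := I.mul_mem hq h4
      have h6 : q * l * q⁻¹ * l⁻¹ = q * (l * q⁻¹ * l⁻¹) := by group
      rwa [h6]
    · exact L.mul_mem (hA.norm q (hI q hq) l hl) (L.inv_mem hl)
  rwa [mul_inv_eq_one, mul_inv_eq_iff_eq_mul] at h1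

/-- `O(C(t)) = 1` for all involutions of the Held group -/
theorem bal {X : Type*} [Group X] (h : Cfsg.Spor.IsoHe X) {t : X} (ht : t * t = 1) (h1 : t ≠ 1) : Bal X t := by
  obtain ⟨e⟩ := h
  have hs : e t * e t = 1 := by rw [← map_mul, ht, map_one]
  have hs1 : e t ≠ 1 := fun h2 => h1 (by
    have := congrArg e.symm h2
    rwa [e.symm_apply_apply, map_one] at this)
  have key : ∀ (u g : Cfsg.Spor.He), g * u * g⁻¹ = e t → Bal Cfsg.Spor.He u → Bal X t := by
    intro u g hg hu
    have h2 := (hu.congr (MulAut.conj g)).congr e.symm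
    rw [MulAut.conj_apply, hg, e.symm_apply_apply] at h2
    exact h2
  rcases KFacts.He.Classes.two_classes_a hs hs1 with ⟨g, hg⟩ | ⟨g, hg⟩
  · exact key _ g hg (OddHalf.D4.Spor.HeSheet.bal_of_hyp KFacts.He.Hyp.hyp)
  · exact key _ g hg bal_a

end he

/-! ### The conclusion -/

section main

variable {G : Type*} [Group G] [Finite G]

theorem index_dvd {X : Subgroup G} [X.Normal] (hcen : centralizer (X : Set G) = ⊥) (hHe : Cfsg.Spor.IsoHe X) :
    X.index ∣ 2 := by
  have h1 : (MulAut.conj : X →* MulAut X).range.comap (MulAut.conjNormal (H := X)) = X := by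
    ext g
    constructor
    · rintro ⟨l, hl⟩
      have h3 : (l : G)⁻¹ * g ∈ centralizer (X : Set G) := by
        rw [mem_centralizer_iff]
        intro x hx
        have h6 : (l : G) * x * (l : G)⁻¹ = g * x * g⁻¹ :=
          congrArg (fun α : MulAut X => ((α ⟨x, hx⟩ : X) : G)) hl
        calc x * ((l : G)⁻¹ * g) = (l : G)⁻¹ * ((l : G) * x * (l : G)⁻¹) * g := by group
          _ = (l : G)⁻¹ * (g * x * g⁻¹) * g := by rw [h6]
          _ = (l : G)⁻¹ * g * x := by group
      rw [hcen, mem_bot, inv_mul_eq_one] at h3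
      rw [← h3]
      exact l.2
    · intro hg
      exact ⟨⟨g, hg⟩, MulEquiv.ext fun x => Subtype.ext rfl⟩
  rcases KFacts.He.Outer.index_le_two hHe with h2 | h2
  · have h3 : X = ⊤ := by
      rw [← h1, Subgroup.index_eq_one.1 h2]; rfl
    rw [h3, index_top]; norm_num
  · haveI := Subgroup.normal_of_index_eq_two h2
    have h3 : X.index = (MulAut.conj : X →* MulAut X).range.relIndex (MulAut.conjNormal (H := X)).range := by
      conv_lhs => rw [← h1]
      rw [index_comap]
    rw [h3, ← h2]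
    exact relIndex_dvd_index_of_normal _ _

/-- **the Held group**: no family of quaternion groups of order 8 satisfies `Hyp` -/
theorem he_false {Om : Set (Subgroup G)} (h : Hyp Om) (h8 : ∀ K ∈ Om, Nat.card K = 8) {K : Subgroup G}
    (hK : K ∈ Om) (fs : AssemblyNil.FS G) (hHe : Cfsg.Spor.IsoHe ↥(generalizedFittingSubgroup G)) : False := by
  have w := WR.of_hyp h h8
  obtain ⟨X, hX⟩ : ∃ X, X = generalizedFittingSubgroup G := ⟨_, rfl⟩
  have hXn : X.Normal := by rw [hX]; exact Lib.GenFitting.genFitting_normal (G := G)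
  have hcen : centralizer (X : Set G) = ⊥ := by rw [hX]; exact End.centralizer_fstar fs.simple fs.na
  rw [← hX] at hHe
  have hi := index_dvd hcen hHe
  have hcases : ∀ g k : G, g ∈ X ∨ k ∈ X ∨ g * k ∈ X := by
    intro g k
    rcases (Nat.dvd_prime Nat.prime_two).1 hi with h1 | h1
    · left; rw [Subgroup.index_eq_one.1 h1]; trivial
    · have h2 := Subgroup.mul_mem_iff_of_index_two h1 (a := g) (b := k)
      by_cases h3 : g ∈ X
      · exact Or.inl h3
      · by_cases h4 : k ∈ X
        · exact Or.inr (Or.inl h4)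
        · exact Or.inr (Or.inr (h2.2 ⟨fun h5 => absurd h5 h3, fun h5 => absurd h5 h4⟩))
  obtain ⟨z, hz⟩ : ∃ z, z = zz K := ⟨_, rfl⟩
  have hKz : K ∈ Ov Om z := ⟨hK, hz.symm⟩
  obtain ⟨y, hy, hyX, hyy⟩ : ∃ y ∈ K, y ∈ X ∧ y * y = z := by
    obtain ⟨a, ha, haa⟩ := w.exists_four hK
    obtain ⟨b, hb, hbb, h1, h2⟩ := w.exists_anti hK ha haa
    have h3 := (w.anti hK ha hb haa hbb h1 h2).2
    rcases hcases a b with h4 | h4 | h4
    · exact ⟨a, ha, h4, by rw [hz]; exact haa⟩
    · exact ⟨b, hb, h4, by rw [hz]; exact hbb⟩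
    · exact ⟨a * b, mul_mem ha hb, h4, by rw [hz]; exact h3⟩
  have hzX : z ∈ X := by rw [← hyy]; exact mul_mem hyX hyX
  have hzz : z * z = 1 := by rw [hz]; exact w.zs hK
  have hz1 : z ≠ 1 := by rw [hz]; exact w.zn hK
  -- the group generated by the members over `z`
  obtain ⟨n, hn⟩ : ∃ n, (Ov Om z).ncard = n + 1 := by
    refine ⟨(Ov Om z).ncard - 1, ?_⟩
    have : 0 < (Ov Om z).ncard := (Set.ncard_pos (Set.toFinite _)).2 ⟨K, hKz⟩
    omega
  have hcard := card_SS w n (Ov Om z) hn le_rfl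
  have h2E : IsPGroup 2 (SS (Ov Om z)) := by
    refine IsPGroup.of_card (n := 2 * (n + 1) + 1) ?_
    rw [hcard, show (4 : ℕ) = 2 ^ 2 by norm_num, ← pow_mul, pow_succ, mul_comm]
  have hconj : ∀ c : G, c * z = z * c → ∀ q ∈ SS (Ov Om z), c * q * c⁻¹ ∈ SS (Ov Om z) := by
    intro c hc
    have h1 : SS (Ov Om z) ≤ (SS (Ov Om z)).comap (MulAut.conj c).toMonoidHom := by
      refine SS_le fun L hL q hq => ?_
      have h2 : c * q * c⁻¹ ∈ cj c L := conj_mem_cj hq
      exact le_SS (w.Ov_cj' hL hc) h2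
    exact fun q hq => h1 hq
  have hcomz : ∀ q ∈ SS (Ov Om z), q * z = z * q := by
    have h1 : SS (Ov Om z) ≤ centralizer {z} := by
      refine SS_le fun L hL q hq => ?_
      rw [mem_centralizer_singleton_iff, ← hL.2]
      exact w.cen hL.1 hq
    exact fun q hq => mem_centralizer_singleton_iff.1 (h1 hq)
  rcases fact hHe (t := ⟨z, hzX⟩) (Subtype.ext hzz) (fun h1 => hz1 (congrArg Subtype.val h1))
    ((SS (Ov Om z)).subgroupOf X) (by
      intro q hq
      rw [mem_centralizer_singleton_iff]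
      exact Subtype.ext (hcomz q hq))
    (h2E.comap_subtype) (by
      intro c hc q hq
      exact hconj c (congrArg Subtype.val hc) q hq) with h1 | ⟨h1, h2, h3⟩
  · have h2 := h1 ⟨y, hyX⟩ (le_SS hKz hy)
    apply hz1
    rw [← hyy]
    exact congrArg Subtype.val h2
  · -- at most 4 members
    have h4 : Nat.card (SS (Ov Om z)) ∣ 256 := by
      have h5 : X.relIndex (SS (Ov Om z)) ∣ 2 := (relIndex_dvd_index_of_normal _ _).trans hi
      have h6 : Nat.card ((SS (Ov Om z)).subgroupOf X) = Nat.card (X.subgroupOf (SS (Ov Om z))) := by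
        rw [← card_map_of_injective X.subtype_injective, ← card_map_of_injective (SS (Ov Om z)).subtype_injective,
          subgroupOf_map_subtype, subgroupOf_map_subtype, inf_comm]
      have h7 := (X.subgroupOf (SS (Ov Om z))).card_mul_index
      rw [← h7, ← h6]
      exact mul_dvd_mul h1 h5
    have hr : (Ov Om z).ncard ≤ 4 := ncard_le w (P := SS (Ov Om z)) (fun K hK => le_SS hK) (by
      intro h5
      have := Nat.le_of_dvd (by norm_num) (h5.trans h4)
      omega)
    have h5 := comm_of_perfect w (P := (centralizer {(⟨z, hzX⟩ : X)}).map X.subtype) (by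
      rw [← map_commutator, h2]) (by
      rintro _ ⟨p, hp, rfl⟩
      exact congrArg Subtype.val (mem_centralizer_singleton_iff.1 hp)) hKz hr
    rcases h3 ⟨y, hyX⟩ (Subtype.ext (by
        change y * z = z * y
        rw [← hyy, mul_assoc])) (fun c hc => Subtype.ext (h5 c ⟨c, mem_centralizer_singleton_iff.2 hc, rfl⟩
        y hy).symm) with h6 | h6
    · have h7 : y = 1 := congrArg Subtype.val h6
      apply hz1
      rw [← hyy, h7, one_mul]
    · have h7 : y = z := congrArg Subtype.val h6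
      apply hz1
      have h8 := hyy
      rw [h7, hzz] at h8
      exact h8.symm

/-- `O(C_G(v)) = 1` for `v ∈ F*(G) ≃ He` -/
theorem core_bot (fs : AssemblyNil.FS G) (hHe : Cfsg.Spor.IsoHe ↥(generalizedFittingSubgroup G)) {v : G}
    (hv : v * v = 1) (h1 : v ≠ 1) (hvX : v ∈ generalizedFittingSubgroup G) :
    centralizerPPrimeCore 2 v = ⊥ := by
  obtain ⟨X, hX⟩ : ∃ X, X = generalizedFittingSubgroup G := ⟨_, rfl⟩
  have hXn : X.Normal := by rw [hX]; exact Lib.GenFitting.genFitting_normal (G := G)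
  have hcen : centralizer (X : Set G) = ⊥ := by rw [hX]; exact End.centralizer_fstar fs.simple fs.na
  rw [← hX] at hHe hvX
  have hi := index_dvd hcen hHe
  have hodd : Odd (Nat.card (centralizerPPrimeCore 2 v)) := by
    have h3 : Nat.card (centralizerPPrimeCore 2 v) = Nat.card (pPrimeCore 2 ↥(centralizer ({v} : Set G))) :=
      card_map_of_injective (Subgroup.subtype_injective _)
    rw [h3]
    exact Nat.coprime_two_right.mp (Lib.Cores.pPrimeCore_coprime 2)
  have hn : ∀ c : G, c * v = v * c → ∀ i ∈ centralizerPPrimeCore 2 v, c * i * c⁻¹ ∈ centralizerPPrimeCore 2 v := by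
    rintro c hc _ ⟨x, hx, rfl⟩
    exact ⟨_, (Lib.Cores.pPrimeCore_normal 2).conj_mem x hx ⟨c, mem_centralizer_singleton_iff.2 hc⟩, rfl⟩
  have hcv : ∀ i ∈ centralizerPPrimeCore 2 v, i * v = v * i := by
    rintro _ ⟨x, -, rfl⟩
    exact mem_centralizer_singleton_iff.1 x.2
  -- `O(C(v)) ≤ X`
  have hle : centralizerPPrimeCore 2 v ≤ X := by
    intro x hx
    have h3 : Odd (orderOf x) := by
      have h4 : orderOf (⟨x, hx⟩ : centralizerPPrimeCore 2 v) ∣ Nat.card (centralizerPPrimeCore 2 v) :=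
        orderOf_dvd_natCard _
      rw [Subgroup.orderOf_mk] at h4
      exact Odd.of_dvd_nat hodd h4
    have h4 : x ^ 2 ∈ X := by
      rcases (Nat.dvd_prime Nat.prime_two).1 hi with h5 | h5
      · rw [Subgroup.index_eq_one.1 h5]; trivial
      · exact Subgroup.sq_mem_of_index_two h5 x
    obtain ⟨m, hm⟩ := h3
    have h5 : x = (x ^ 2) ^ (m + 1) := by
      rw [← pow_mul, show 2 * (m + 1) = (2 * m + 1) + 1 by ring, pow_succ, ← hm, pow_orderOf_eq_one, one_mul]
    rw [h5]
    exact pow_mem h4 _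
  have h3 := bal hHe (t := ⟨v, hvX⟩) (Subtype.ext hv) (fun h => h1 (congrArg Subtype.val h))
    ((centralizerPPrimeCore 2 v).subgroupOf X) (fun i hi => Subtype.ext (hcv i hi))
    (fun c hc i hi => hn c (congrArg Subtype.val hc) i hi) (by
      rw [← card_map_of_injective X.subtype_injective, map_subgroupOf_eq_of_le hle]
      exact hodd)
  rw [← map_subgroupOf_eq_of_le hle, h3, Subgroup.map_bot]

/-- **the Held group**, for the world `W3` -/
theorem held {K : Subgroup G} (w : AssemblyNil.W3 G K)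
    (hHe : Cfsg.Spor.IsoHe ↥(generalizedFittingSubgroup G)) : False := by
  have hyp := w.hyp
  have hzX : ∀ L ∈ cls K, zz L ∈ generalizedFittingSubgroup G := by
    obtain ⟨X, hX⟩ : ∃ X, X = generalizedFittingSubgroup G := ⟨_, rfl⟩
    have hXn : X.Normal := by rw [hX]; exact Lib.GenFitting.genFitting_normal (G := G)
    have hcen : centralizer (X : Set G) = ⊥ := by rw [hX]; exact End.centralizer_fstar w.simple w.na
    rw [← hX]
    rw [← hX] at hHe
    have hi := index_dvd hcen hHe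
    intro L hL
    obtain ⟨Q, hQ⟩ := Hyp.exists_syl L
    obtain ⟨c, v, n, hq⟩ := hyp.exists_gq hL hQ
    have h1 : v * v = zz L := hq.v_sq
    rw [← h1, ← pow_two]
    rcases (Nat.dvd_prime Nat.prime_two).1 hi with h5 | h5
    · rw [Subgroup.index_eq_one.1 h5]; trivial
    · exact Subgroup.sq_mem_of_index_two h5 v
  have hO : ∀ L ∈ cls K, OO L = ⊥ := fun L hL => ROne.OO_eq_bot hyp hL
    (core_bot w.toFS hHe (hyp.zz_mul hL) (hyp.zz_ne hL) (hzX L hL))
  have h8 : ∀ L ∈ cls K, Nat.card L = 8 := by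
    rintro L ⟨g, rfl⟩
    rw [card_cj]
    exact ROne.card_eight w.nil w.c3 (hO K (self_mem_cls K))
  exact he_false hyp h8 (self_mem_cls K) w.toFS hHe

end main

end Cfsg.Agent.Cit.Nil.Unbal.Held
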