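import Cfsg.Agent.Cit.Nil.Unbal.Held

/-!
# S1309, the Held group, members of arbitrary order

`he_false_q` : `F*(G) ≃ He`, `Hyp Om`, the members are 2-nilpotent: impossible.
-/

set_option autoImplicit false
set_option linter.style.haveILetI false
set_option linter.unusedSectionVars false

namespace Cfsg.Agent.Cit.Nil.Unbal.HeldQ

open Subgroup Cfsg Cit Nil Nil.RG
open Cfsg.Agent.Cit.Nil.Unbal.Held (SS_insert index_dvd core_bot)
open scoped commutatorElement

section count

variable {G : Type*} [Group G] [Finite G]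

/-- a family of pairwise commuting subgroups with centre `⟨z⟩` -/
structure Fam (z : G) (𝒦 : Set (Subgroup G)) : Prop where
  zz : z * z = 1
  z1 : z ≠ 1
  mem : ∀ L ∈ 𝒦, z ∈ L
  card : ∀ L ∈ 𝒦, 8 ≤ Nat.card L
  cen : ∀ L ∈ 𝒦, ∀ x ∈ L, (∀ k ∈ L, x * k = k * x) → x = 1 ∨ x = z
  comm : ∀ L ∈ 𝒦, ∀ M ∈ 𝒦, L ≠ M → ∀ a ∈ L, ∀ b ∈ M, a * b = b * a

theorem Fam.mono {z : G} {𝒦 𝒦' : Set (Subgroup G)} (h : Fam z 𝒦) (hs : 𝒦' ⊆ 𝒦) : Fam z 𝒦' where
  zz := h.zz
  z1 := h.z1
  mem := fun L hL => h.mem L (hs hL)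
  card := fun L hL => h.card L (hs hL)
  cen := fun L hL => h.cen L (hs hL)
  comm := fun L hL M hM => h.comm L (hs hL) M (hs hM)

theorem Fam.card_SS {z : G} : ∀ (n : ℕ) (𝒦 : Set (Subgroup G)), Fam z 𝒦 → 𝒦.ncard = n + 1 →
    2 * 4 ^ (n + 1) ≤ Nat.card (SS 𝒦) := by
  intro n
  induction n with
  | zero =>
    intro 𝒦 h hn
    obtain ⟨K, rfl⟩ := Set.ncard_eq_one.1 hn
    refine le_trans ?_ (Subgroup.card_le_of_le (le_SS (𝒦 := {K}) rfl))
    have := h.card K rfl
    omega
  | succ n ih =>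
    intro 𝒦 h hn
    obtain ⟨K, hK⟩ : 𝒦.Nonempty := by
      rw [Set.nonempty_iff_ne_empty]; rintro rfl; rw [Set.ncard_empty] at hn; omega
    have h1 := Set.ncard_sdiff_singleton_add_one hK (Set.toFinite 𝒦)
    have h2 : (𝒦 \ {K}).ncard = n + 1 := by omega
    have h3 := ih (𝒦 \ {K}) (h.mono Set.sdiff_subset) h2
    have h4 : SS 𝒦 = K ⊔ SS (𝒦 \ {K}) := by
      rw [← SS_insert, Set.insert_sdiff_singleton, Set.insert_eq_of_mem hK]
    have hcom : K ≤ centralizer (SS (𝒦 \ {K}) : Set G) := by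
      intro k hk
      rw [mem_centralizer_iff]
      intro w hw
      refine (SS_comm (x := k) (fun L hL l hl => ?_) hw).symm
      exact h.comm K hK L hL.1 (fun h1 => hL.2 h1.symm) k hk l hl
    have h5 := Omega.NoFF.ThmJFam.card_sup_inf hcom
    have h6 : Nat.card (K ⊓ SS (𝒦 \ {K}) : Subgroup G) ≤ 2 := by
      have h7 : K ⊓ SS (𝒦 \ {K}) ≤ zpowers z := by
        rintro x ⟨hx, hx'⟩
        rcases h.cen K hK x hx (fun k hk => (mem_centralizer_iff.1 (hcom hk) x hx')) with h8 | h8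
        · rw [h8]; exact one_mem _
        · rw [h8]; exact mem_zpowers _
      refine (Subgroup.card_le_of_le h7).trans ?_
      rw [Nat.card_zpowers]
      exact orderOf_le_of_pow_eq_one (by norm_num) (by rw [pow_two]; exact h.zz)
    rw [← h4] at h5
    have h8 := h.card K hK
    have h9 : (4 : ℕ) ^ (n + 1 + 1) = 4 ^ (n + 1) * 4 := pow_succ 4 (n + 1)
    have h10 : 8 * (2 * 4 ^ (n + 1)) ≤ Nat.card (SS 𝒦) * 2 :=
      calc 8 * (2 * 4 ^ (n + 1)) ≤ Nat.card K * Nat.card (SS (𝒦 \ {K})) := Nat.mul_le_mul h8 h3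
        _ = Nat.card (SS 𝒦) * Nat.card (K ⊓ SS (𝒦 \ {K}) : Subgroup G) := h5.symm
        _ ≤ Nat.card (SS 𝒦) * 2 := Nat.mul_le_mul_left _ h6
    omega

end count

/-! ### The Held group -/

section he

open Cfsg.Agent.SporadicRecognition.HeldModel Cfsg.Agent.KFacts.He.Lv

/-- the property of an involution `t` used below -/
def Fact (X : Type*) [Group X] (t : X) : Prop :=
  ∀ Q : Subgroup X, Q ≤ centralizer {t} → IsPGroup 2 Q → (∀ c, c * t = t * c → ∀ q ∈ Q, c * q * c⁻¹ ∈ Q) →
    (∀ q ∈ Q, q * q = 1) ∨ (Nat.card Q ∣ 128 ∧ ⁅centralizer {t}, centralizer {t}⁆ = centralizer ({t} : Set X) ∧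
      ((∀ q ∈ Q, q = 1 ∨ q = t) ∨ ∃ q ∈ Q, q * q = 1 ∧ q ≠ 1 ∧ q ≠ t))

theorem Fact.congr {X Y : Type*} [Group X] [Group Y] (e : X ≃* Y) {t : X} (h : Fact X t) : Fact Y (e t) := by
  intro Q hQ h2 hc
  have hmem : ∀ x : X, x ∈ centralizer {t} ↔ e x ∈ centralizer {e t} := by
    intro x
    rw [mem_centralizer_singleton_iff, mem_centralizer_singleton_iff, ← map_mul, ← map_mul]
    exact ⟨fun h => congrArg e h, fun h => e.injective h⟩
  have hcm : (centralizer {t}).map e.toMonoidHom = centralizer {e t} := by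
    ext y
    constructor
    · rintro ⟨x, hx, rfl⟩
      exact (hmem x).1 hx
    · intro hy
      refine ⟨e.symm y, (hmem _).2 ?_, e.apply_symm_apply y⟩
      rwa [e.apply_symm_apply]
  have hcard : Nat.card (Q.comap e.toMonoidHom) = Nat.card Q := by
    have h3 : (Q.comap e.toMonoidHom).map e.toMonoidHom = Q := map_comap_eq_self_of_surjective e.surjective Q
    rw [← card_map_of_injective (f := e.toMonoidHom) e.injective, h3]
  have hq : ∀ q ∈ Q, e.symm q ∈ Q.comap e.toMonoidHom := by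
    intro q hq
    change e (e.symm q) ∈ Q
    rwa [e.apply_symm_apply]
  rcases h (Q.comap e.toMonoidHom) (fun x hx => (hmem x).2 (hQ hx))
    (h2.comap_of_injective e.toMonoidHom e.injective) (by
      intro c hc' q hq
      change e (c * q * c⁻¹) ∈ Q
      rw [map_mul, map_mul, map_inv]
      exact hc (e c) (by rw [← map_mul, ← map_mul, hc']) _ hq) with h3 | ⟨h3, h4, h5⟩
  · left
    intro q hq'
    have h5 := congrArg e (h3 _ (hq q hq'))
    rwa [map_mul, e.apply_symm_apply, map_one] at h5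
  · right
    refine ⟨by rwa [hcard] at h3, ?_, ?_⟩
    · rw [← hcm, ← map_commutator, h4]
    · rcases h5 with h5 | ⟨q, hq1, hq2, hq3, hq4⟩
      · left
        intro q hq'
        rcases h5 _ (hq q hq') with h6 | h6
        · left
          have := congrArg e h6
          rwa [e.apply_symm_apply, map_one] at this
        · right
          have := congrArg e h6
          rwa [e.apply_symm_apply] at this
      · right
        refine ⟨e q, hq1, by rw [← map_mul, hq2, map_one], fun h6 => hq3 ?_, fun h6 => hq4 (e.injective h6)⟩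
        exact e.injective (by rw [h6, map_one])

theorem exists_inv {G : Type*} [Group G] {z : G} {P R E : Subgroup G} (h : KFacts.TwoSix.SheetDef.Half z P R E)
    {Y : Subgroup G} (hY : E ≤ Y) : ∃ q ∈ Y, q * q = 1 ∧ q ≠ 1 ∧ q ≠ z := by
  by_contra hcon
  push Not at hcon
  haveI : Finite E := Nat.finite_of_card_ne_zero (by rw [h.cardE]; norm_num)
  have h1 : (E : Set G) ⊆ {1, z} := by
    intro x hx
    by_cases hx1 : x = 1
    · exact Or.inl hx1
    · exact Or.inr (hcon x (hY hx) (h.sqE x hx) hx1)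
  have h2 : (E : Set G).ncard ≤ 2 := (Set.ncard_le_ncard h1 (Set.toFinite _)).trans (Set.ncard_insert_le _ _ |>.trans (by simp))
  have h3 : (E : Set G).ncard = 16 := by rw [← h.cardE]; exact (Nat.card_coe_set_eq _).symm
  omega

/-- the class of `z` -/
theorem fact_z : Fact Cfsg.Spor.He KFacts.He.Bound.z := by
  intro Q hQ h2 hc
  right
  have h1 := KFacts.TwoSix.Sheet.sheet_of KFacts.He.Hyp.hyp.inj
  rw [KFacts.He.Hyp.hyp.map_zz, KFacts.He.Hyp.hyp.range] at h1
  have h3 := h1.core Q hQ h2 fun p hp y hy => hc p (mem_centralizer_singleton_iff.1 hp) y hy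
  refine ⟨?_, h1.perf, ?_⟩
  · rw [← h1.cardR]
    exact card_dvd_of_le h3
  · rcases h1.sub Q h3 fun p hp y hy => hc p (mem_centralizer_singleton_iff.1 hp) y hy with h4 | h4 | h4 | h4
    · exact Or.inl h4
    · exact Or.inr (exists_inv h1.h1 h4.ge)
    · exact Or.inr (exists_inv h1.h2 h4.ge)
    · exact Or.inr (exists_inv h1.h1 (h1.h1.ER.trans h4.ge))

/-- the class of `a` -/
theorem fact_a : Fact Cfsg.Spor.He (gn .a) := fun Q hQ h2 hc => Or.inl (Held.sq_a Q hQ h2 hc)

/-- every involution of the Held group -/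
theorem fact {X : Type*} [Group X] (h : Cfsg.Spor.IsoHe X) {t : X} (ht : t * t = 1) (h1 : t ≠ 1) : Fact X t := by
  obtain ⟨e⟩ := h
  have hs : e t * e t = 1 := by rw [← map_mul, ht, map_one]
  have hs1 : e t ≠ 1 := fun h2 => h1 (by
    have := congrArg e.symm h2
    rwa [e.symm_apply_apply, map_one] at this)
  have key : ∀ (u g : Cfsg.Spor.He), g * u * g⁻¹ = e t → Fact Cfsg.Spor.He u → Fact X t := by
    intro u g hg hu
    have h2 := (hu.congr (MulAut.conj g)).congr e.symm
    rw [MulAut.conj_apply, hg, e.symm_apply_apply] at h2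
    exact h2
  rcases KFacts.He.Classes.two_classes_a hs hs1 with ⟨g, hg⟩ | ⟨g, hg⟩
  · exact key _ g hg fact_z
  · exact key _ g hg fact_a

end he

/-! ### The conclusion -/

section main

variable {G : Type*} [Group G] [Finite G]

/-- a perfect group acting on at most 4 subgroups by conjugation normalises them -/
theorem norm_of_perfect {𝒦 : Set (Subgroup G)} {P : Subgroup G} (hP : ⁅P, P⁆ = P)
    (hact : ∀ p ∈ P, ∀ L ∈ 𝒦, cj p L ∈ 𝒦) (hr : 𝒦.ncard ≤ 4) : ∀ p ∈ P, ∀ L ∈ 𝒦, cj p L = L := by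
  let f : P →* Equiv.Perm 𝒦 :=
    { toFun := fun p =>
        { toFun := fun L => ⟨cj (p : G) L, hact p p.2 L L.2⟩
          invFun := fun L => ⟨cj (p : G)⁻¹ L, hact _ (inv_mem p.2) L L.2⟩
          left_inv := fun L => Subtype.ext (by
            change cj (p : G)⁻¹ (cj (p : G) L) = L
            rw [← cj_mul, inv_mul_cancel, cj_one])
          right_inv := fun L => Subtype.ext (by
            change cj (p : G) (cj (p : G)⁻¹ L) = L
            rw [← cj_mul, mul_inv_cancel, cj_one]) }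
      map_one' := by
        ext L
        change _ ∈ cj (1 : G) L ↔ _
        rw [cj_one]; rfl
      map_mul' := fun p q => by
        ext L
        change _ ∈ cj ((p : G) * q) L ↔ _ ∈ cj (p : G) (cj (q : G) L)
        rw [cj_mul] }
  intro p hp L hL
  have h1 := Schreier.Tools.perm_eq_one hP (by rwa [Nat.card_coe_set_eq]) f ⟨p, hp⟩ ⟨L, hL⟩
  exact congrArg Subtype.val h1

/-- **the Held group**: no family of 2-nilpotent subgroups satisfies `Hyp` -/
theorem he_false_q {Om : Set (Subgroup G)} (h : Hyp Om) (hn : ∀ K ∈ Om, NilK K) {K : Subgroup G}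
    (hK : K ∈ Om) (fs : AssemblyNil.FS G) (hHe : Cfsg.Spor.IsoHe ↥(generalizedFittingSubgroup G)) : False := by
  haveI : _root_.Fact (Nat.Prime 2) := ⟨Nat.prime_two⟩
  have hfs := fs
  obtain ⟨X, hX⟩ : ∃ X, X = generalizedFittingSubgroup G := ⟨_, rfl⟩
  have hXn : X.Normal := by rw [hX]; exact Lib.GenFitting.genFitting_normal (G := G)
  have hcen : centralizer (X : Set G) = ⊥ := by rw [hX]; exact End.centralizer_fstar fs.simple fs.na
  have hHe' := hHe
  rw [← hX] at hHe
  have hi := index_dvd hcen hHe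
  have hcases : ∀ g k : G, g ∈ X ∨ k ∈ X ∨ g * k ∈ X := by
    intro g k
    rcases (Nat.dvd_prime Nat.prime_two).1 hi with h1 | h1
    · left; rw [Subgroup.index_eq_one.1 h1]; trivial
    · have h2 := Subgroup.mul_mem_iff_of_index_two h1 (a := g) (b := k)
      by_cases h3 : g ∈ X
      · exact Or.inl h3
      · by_cases h4 : k ∈ X
        · exact Or.inr (Or.inl h4)
        · exact Or.inr (Or.inr (h2.2 ⟨fun h5 => absurd h5 h3, fun h5 => absurd h5 h4⟩))
  -- the members
  have hyx : ∀ L ∈ Om, ∃ y ∈ L, y ∈ X ∧ y * y = zz L := by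
    intro L hL
    obtain ⟨Q, hQ⟩ := Hyp.exists_syl L
    obtain ⟨c, v, n, hq⟩ := h.exists_gq hL hQ
    have hd : c ^ 2 ^ n * c ^ 2 ^ n = zz L := by
      rw [← pow_add, ← two_mul, ← pow_succ']; exact hq.z_eq
    have hdm : c ^ 2 ^ n ∈ L := pow_mem (hQ.1 hq.c_mem) _
    rcases hcases v (c ^ 2 ^ n) with h4 | h4 | h4
    · exact ⟨v, hQ.1 hq.v_mem, h4, hq.v_sq⟩
    · exact ⟨_, hdm, h4, hd⟩
    · refine ⟨v * c ^ 2 ^ n, mul_mem (hQ.1 hq.v_mem) hdm, h4, ?_⟩
      calc (v * c ^ 2 ^ n) * (v * c ^ 2 ^ n) = (v * c ^ 2 ^ n) * ((c ^ 2 ^ n)⁻¹ * v) := by rw [hq.conj_pow]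
        _ = v * v := by group
        _ = zz L := hq.v_sq
  have hzX : ∀ L ∈ Om, zz L ∈ X := by
    intro L hL
    obtain ⟨y, -, hy, hyy⟩ := hyx L hL
    rw [← hyy]; exact mul_mem hy hy
  have hO : ∀ L ∈ Om, OO L = ⊥ := fun L hL => ROne.OO_eq_bot h hL
    (core_bot hfs hHe' (h.zz_mul hL) (h.zz_ne hL) (by rw [← hX]; exact hzX L hL))
  have hsyl : ∀ L ∈ Om, Syl L L := by
    intro L hL
    obtain ⟨Q, hQ⟩ := Hyp.exists_syl L
    have h1 := hn L hL Q hQ
    rw [hO L hL, bot_sup_eq] at h1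
    rwa [le_antisymm hQ.1 h1] at hQ
  have hcomm : ∀ L ∈ Om, ∀ M ∈ Om, zz L = zz M → L ≠ M → ∀ a ∈ L, ∀ b ∈ M, a * b = b * a := by
    intro L hL M hM hz hne
    rcases h.h2 L hL M hM hz with h1 | h1
    · exact absurd h1 hne
    · rw [hO L hL, bot_inf_eq, le_bot_iff, commutator_eq_bot_iff_le_centralizer] at h1
      intro a ha b hb
      exact (mem_centralizer_iff.1 (h1 ha) b hb).symm
  obtain ⟨z, hz⟩ : ∃ z, z = zz K := ⟨_, rfl⟩
  have hKz : K ∈ Ov Om z := ⟨hK, hz.symm⟩
  obtain ⟨y, hy, hyX, hyy⟩ := hyx K hK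
  rw [← hz] at hyy
  have hzX' : z ∈ X := by rw [hz]; exact hzX K hK
  have hzz : z * z = 1 := by rw [hz]; exact h.zz_mul hK
  have hz1 : z ≠ 1 := by rw [hz]; exact h.zz_ne hK
  have hact : ∀ c : G, c * z = z * c → ∀ L ∈ Ov Om z, cj c L ∈ Ov Om z := by
    intro c hc L hL
    refine ⟨h.conj L hL.1 c, ?_⟩
    rw [h.zz_cj hL.1, hL.2, hc, mul_inv_cancel_right]
  have fam : Fam z (Ov Om z) := by
    refine ⟨hzz, hz1, fun L hL => by rw [← hL.2]; exact h.zz_mem hL.1, fun L hL => ?_, fun L hL x hx hxk => ?_,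
      fun L hL M hM hne => hcomm L hL.1 M hM.1 (by rw [hL.2, hM.2]) hne⟩
    · obtain ⟨n, ⟨e⟩⟩ := h.isGQ hL.1 (hsyl L hL.1)
      haveI : NeZero (2 ^ (n + 1)) := ⟨by positivity⟩
      rw [Nat.card_congr e.toEquiv, Nat.card_eq_fintype_card, QuaternionGroup.card]
      have h1 : 2 ^ 1 ≤ 2 ^ (n + 1) := Nat.pow_le_pow_right (by norm_num) (by omega)
      omega
    · obtain ⟨c, v, n, hq⟩ := h.exists_gq hL.1 (hsyl L hL.1)
      rw [hL.2] at hq
      by_cases hx1 : x = 1
      · exact Or.inl hx1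
      right
      rcases hq.cov x hx with ⟨i, rfl⟩ | ⟨i, rfl⟩
      · refine hq.eq_z hx ?_ hx1
        have h1 := hxk v hq.v_mem
        rw [hq.conj_pow] at h1
        have h2 : c ^ i = (c ^ i)⁻¹ := mul_right_cancel h1
        nth_rewrite 1 [h2]
        exact inv_mul_cancel _
      · exfalso
        apply hq.not_comm
        have h1 := hxk c hq.c_mem
        have h2 : c ^ i * c = c * c ^ i := by rw [← pow_succ, ← pow_succ']
        have h3 : v * c * c ^ i = c * v * c ^ i := by
          calc v * c * c ^ i = v * (c * c ^ i) := by group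
            _ = v * c ^ i * c := by rw [← h2]; group
            _ = c * v * c ^ i := by rw [h1]; group
        exact mul_right_cancel h3
  have hcomz : ∀ L ∈ Ov Om z, ∀ q ∈ L, q * z = z * q := by
    intro L hL q hq
    rw [← hL.2]
    exact h.comm_zz hL.1 (le_normalizer hq)
  -- `SS (Ov Om z)` is a 2-group
  have h2E : IsPGroup 2 (SS (Ov Om z)) := by
    have h1 : SS (Ov Om z) ≤ (pCore 2 (centralizer ({z} : Set G))).map (centralizer ({z} : Set G)).subtype := by
      refine SS_le fun L hL x hx => ?_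
      have h3 := h.sub L hL.1
      rw [hL.2] at h3
      have h4 : IsPGroup 2 (L.subgroupOf (centralizer ({z} : Set G))) := (hsyl L hL.1).2.1.comap_subtype
      have h5 := SignalizersComponents.CompBasic.subnormal_pGroup_le_pCore h3 h4
      exact ⟨⟨x, mem_centralizer_singleton_iff.2 (hcomz L hL x hx)⟩, h5 hx, rfl⟩
    exact ((Lib.Cores.pCore_isPGroup 2).map _).to_le h1
  have hconj : ∀ c : G, c * z = z * c → ∀ q ∈ SS (Ov Om z), c * q * c⁻¹ ∈ SS (Ov Om z) := by
    intro c hc
    have h1 : SS (Ov Om z) ≤ (SS (Ov Om z)).comap (MulAut.conj c).toMonoidHom := by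
      refine SS_le fun L hL q hq => ?_
      have h2 : c * q * c⁻¹ ∈ cj c L := conj_mem_cj hq
      exact le_SS (hact c hc L hL) h2
    exact fun q hq => h1 hq
  have hcomE : ∀ q ∈ SS (Ov Om z), q * z = z * q := by
    have h1 : SS (Ov Om z) ≤ centralizer {z} := by
      refine SS_le fun L hL q hq => ?_
      rw [mem_centralizer_singleton_iff]
      exact hcomz L hL q hq
    exact fun q hq => mem_centralizer_singleton_iff.1 (h1 hq)
  have hf := fact hHe (t := ⟨z, hzX'⟩) (Subtype.ext hzz) (fun h1 => hz1 (congrArg Subtype.val h1))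
  rcases hf ((SS (Ov Om z)).subgroupOf X) (by
      intro q hq
      rw [mem_centralizer_singleton_iff]
      exact Subtype.ext (hcomE q hq))
    (h2E.comap_subtype) (by
      intro c hc q hq
      exact hconj c (congrArg Subtype.val hc) q hq) with h1 | ⟨h1, h2, -⟩
  · have h2 := h1 ⟨y, hyX⟩ (le_SS hKz hy)
    apply hz1
    rw [← hyy]
    exact congrArg Subtype.val h2
  · -- at most 4 members
    have h4 : Nat.card (SS (Ov Om z)) ∣ 256 := by
      have h5 : X.relIndex (SS (Ov Om z)) ∣ 2 := (relIndex_dvd_index_of_normal _ _).trans hi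
      have h6 : Nat.card ((SS (Ov Om z)).subgroupOf X) = Nat.card (X.subgroupOf (SS (Ov Om z))) := by
        rw [← card_map_of_injective X.subtype_injective, ← card_map_of_injective (SS (Ov Om z)).subtype_injective,
          subgroupOf_map_subtype, subgroupOf_map_subtype, inf_comm]
      have h7 := (X.subgroupOf (SS (Ov Om z))).card_mul_index
      rw [← h7, ← h6]
      exact mul_dvd_mul h1 h5
    have hr : (Ov Om z).ncard ≤ 4 := by
      by_contra hcon
      push Not at hcon
      obtain ⟨n, hn'⟩ : ∃ n, (Ov Om z).ncard = n + 1 := ⟨(Ov Om z).ncard - 1, by omega⟩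
      have h5 := fam.card_SS n _ hn'
      have h6 : Nat.card (SS (Ov Om z)) ≤ 256 := Nat.le_of_dvd (by norm_num) h4
      have h7 : 4 ^ 5 ≤ 4 ^ (n + 1) := Nat.pow_le_pow_right (by norm_num) (by omega)
      norm_num at h7
      omega
    set P := (centralizer {(⟨z, hzX'⟩ : X)}).map X.subtype with hPdef
    have hPz : ∀ p ∈ P, p * z = z * p := by
      rintro _ ⟨p, hp, rfl⟩
      exact congrArg Subtype.val (mem_centralizer_singleton_iff.1 hp)
    have h5 := norm_of_perfect (𝒦 := Ov Om z) (P := P) (by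
      rw [hPdef, ← map_commutator, h2]) (fun p hp L hL => hact p (hPz p hp) L hL) hr
    -- `K ⊓ X`
    rcases hf (K.subgroupOf X) (by
        intro q hq
        rw [mem_centralizer_singleton_iff]
        exact Subtype.ext (hcomz K hKz q hq))
      ((hsyl K hK).2.1.comap_subtype) (by
        intro c hc q hq
        have h6 : (c : G) ∈ P := ⟨c, mem_centralizer_singleton_iff.2 hc, rfl⟩
        have h7 : (c : G) * q * (c : G)⁻¹ ∈ cj (c : G) K := conj_mem_cj hq
        rw [h5 c h6 K hKz] at h7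
        exact h7) with h6 | ⟨-, -, h6 | ⟨q, hq1, hq2, hq3, hq4⟩⟩
    · have h7 := h6 ⟨y, hyX⟩ hy
      apply hz1
      rw [← hyy]
      exact congrArg Subtype.val h7
    · rcases h6 ⟨y, hyX⟩ hy with h7 | h7
      · have h8 : y = 1 := congrArg Subtype.val h7
        apply hz1
        rw [← hyy, h8, one_mul]
      · have h8 : y = z := congrArg Subtype.val h7
        apply hz1
        have h9 := hyy
        rw [h8, hzz] at h9
        exact h9.symm
    · apply hq4
      apply Subtype.ext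
      change (q : G) = z
      rw [hz]
      exact h.eq_zz hK hq1 (congrArg Subtype.val hq2) (fun h7 => hq3 (Subtype.ext h7))

end main

end Cfsg.Agent.Cit.Nil.Unbal.HeldQ
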