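import Cfsg.Agent.Cit.Nil.Unbal.LThreeN
import Cfsg.Agent.Cit.Nil.Unbal.HeldQ
import Cfsg.Agent.Cit.Nil.LO.AltG
import Cfsg.Agent.Cit.Nil.FinalNil

/-!
# S1309, the unbalanced groups `A_n`, `L₃(4)`, `He`

`unb_false` : no 2-nilpotent member in a group `G` with `F*(G)` one of them; `unbalNil` : `FinalNil.UnbalNil`.
-/

set_option autoImplicit false
set_option linter.style.haveILetI false
set_option linter.unusedSectionVars false

namespace Cfsg.Agent.Cit.Nil.Unbal.All

open Subgroup Cfsg Cit Cfsg.Agent.Cit.Nil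

universe u

theorem unb_false {G : Type*} [Group G] [Finite G] {Om : Set (Subgroup G)} (h : Hyp Om)
    (hn : ∀ K ∈ Om, NilK K) {K : Subgroup G} (hK : K ∈ Om) (fs : AssemblyNil.FS G)
    (hU : FinalNil.Unb ↥(generalizedFittingSubgroup G)) : False := by
  rcases hU with ⟨n, -, hn7, ⟨e⟩⟩ | h3 | h4
  · exact LO.AltG.alt_false' h hK fs.simple fs.na hn7 e
  · exact LThreeN.lthree_false_nil h hn hK fs h3
  · exact HeldQ.he_false_q h hn hK fs h4

/-- **`FinalNil.UnbalNil`** -/
theorem unbalNil : FinalNil.UnbalNil.{u} := fun _ _ _ fs K hyp hn _ hU =>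
  unb_false hyp (AssemblyNil.nil_cls hn) (self_mem_cls K) fs hU

end Cfsg.Agent.Cit.Nil.Unbal.All
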