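import Cfsg.Agent.Cit.Nil.Unbal.Down
import Cfsg.Agent.Cit.Nil.ROne.QEight
import Cfsg.Agent.Cit.ExclAlt
import Cfsg.Agent.StandardComponent.AltAut

/-!
# S1309, unbalanced groups: alternating groups

`Alt.kill` : a group isomorphic to an alternating group has no member `K`.

`z = zz K`, `V = ⟨y, x⟩ ≤ K` quaternion of order 8.  The even involution `(p, zp)(yp, zyp)` shows with (H2) that `V` is
regular on the support of `z` (`Alt.trans`).  With a conjugate `z'` of `z` commuting with `y`, with the same support, (H3)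
gives an action of `y` on a regular quaternion group `V'`, `z' ∈ V'`, and `y² = z` acts as `z'` on the support
(evaluation: `Alt.hol`): contradiction.
-/

set_option autoImplicit false
set_option linter.style.haveILetI false
set_option linter.unusedSectionVars false

namespace Cfsg.Agent.Cit.Nil.Unbal.Alt

open Subgroup Cfsg Cit Nil QuaternionGroup
open scoped commutatorElement
open Cfsg.Agent.Cit.Nil.ROne.QEight (F Ok aut_ok funF aut_a2)

/-- the quaternion group of order 8 -/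
abbrev Q := QuaternionGroup 2

/-! ### Homomorphisms from `Q` -/

section hom

variable {X : Type*} [Group X]

theorem pow_val_add {y : X} (h1 : y ^ 4 = 1) (i j : ZMod 4) : y ^ (i + j).val = y ^ i.val * y ^ j.val := by
  rw [← pow_add, ZMod.val_add, ← pow_eq_pow_mod _ h1]

theorem pow_val_neg {y : X} (h1 : y ^ 4 = 1) (i : ZMod 4) : y ^ (-i).val = (y ^ i.val)⁻¹ := by
  rw [eq_inv_iff_mul_eq_one, ← pow_val_add h1, neg_add_cancel, ZMod.val_zero, pow_zero]

theorem pow_comm {y x : X} (h3 : y * x = x * y⁻¹) (n : ℕ) : y ^ n * x = x * (y ^ n)⁻¹ := by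
  induction n with
  | zero => simp
  | succ n ih =>
    rw [pow_succ, mul_assoc, h3, ← mul_assoc, ih, mul_inv_rev, mul_assoc]
    congr 1
    rw [← mul_inv_rev, ← mul_inv_rev, ← pow_succ, ← pow_succ']

/-- the homomorphism with `a 1 ↦ y`, `xa 0 ↦ x` -/
def EQ (y x : X) (h1 : y ^ 4 = 1) (h2 : x * x = y ^ 2) (h3 : y * x = x * y⁻¹) : Q →* X where
  toFun q := match q with
    | a i => y ^ i.val
    | xa i => x * y ^ i.val
  map_one' := by
    change y ^ (0 : ZMod 4).val = 1
    rw [ZMod.val_zero, pow_zero]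
  map_mul' := by
    rintro (i | i) (j | j)
    · change y ^ (i + j).val = y ^ i.val * y ^ j.val
      exact pow_val_add h1 i j
    · change x * y ^ (j - i).val = y ^ i.val * (x * y ^ j.val)
      rw [← mul_assoc, pow_comm h3, mul_assoc, ← pow_val_neg h1]
      congr 1
      rw [sub_eq_neg_add]
      exact pow_val_add h1 (-i) j
    · change x * y ^ (i + j).val = x * y ^ i.val * y ^ j.val
      rw [mul_assoc]
      congr 1
      exact pow_val_add h1 i j
    · change y ^ ((2 : ZMod 4) + j - i).val = x * y ^ i.val * (x * y ^ j.val)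
      have e1 : x * y ^ i.val * (x * y ^ j.val) = x * (y ^ i.val * x) * y ^ j.val := by group
      rw [e1, pow_comm h3, ← mul_assoc, h2, ← pow_val_neg h1, mul_assoc, ← pow_val_add h1]
      have e2 : (2 : ZMod 4) + j - i = 2 + (-i + j) := by ring
      rw [e2, pow_val_add h1]
      rfl

theorem EQ_a1 {y x : X} (h1 : y ^ 4 = 1) (h2 : x * x = y ^ 2) (h3 : y * x = x * y⁻¹) : EQ y x h1 h2 h3 (a 1) = y := by
  change y ^ (1 : ZMod 4).val = y
  exact pow_one y

theorem EQ_xa0 {y x : X} (h1 : y ^ 4 = 1) (h2 : x * x = y ^ 2) (h3 : y * x = x * y⁻¹) :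
    EQ y x h1 h2 h3 (xa 0) = x := by
  change x * y ^ (0 : ZMod 4).val = x
  rw [ZMod.val_zero, pow_zero, mul_one]

end hom

/-! ### Evaluations -/

set_option maxRecDepth 100000 in
set_option maxHeartbeats 4000000 in
theorem hol_aux : ∀ p q : Q, Ok p q → ∀ r : Q, (∀ x, F p q (F p q x * r) * r ≠ x) →
    (∀ x, F p q (F p q (F p q (F p q x * r) * r) * r) * r = x) → ∀ x, F p q (F p q x * r) * r = a 2 * x := by
  decide +kernel

/-- an element of the holomorph of `Q` whose square is a fixed-point-free involution -/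
theorem hol (α : MulAut Q) (r : Q) (h1 : ∀ x, α (α x * r) * r ≠ x)
    (h2 : ∀ x, α (α (α (α x * r) * r) * r) * r = x) (x : Q) : α (α x * r) * r = a 2 * x := by
  have h3 := hol_aux _ _ (aut_ok α) r
  rw [← funF α] at h3
  exact h3 h1 h2 x

/-- the permutation `(1, z)(y, zy)` -/
def G0 : Equiv.Perm Q := Equiv.swap 1 (a 2) * Equiv.swap (a 1) (a 3)

/-- the permutation `(z, x)(zy, yx)` -/
def S0 : Equiv.Perm Q := Equiv.swap (a 2) (xa 0) * Equiv.swap (a 3) (a 1 * xa 0)

theorem sign_G0 : Equiv.Perm.sign G0 = 1 := by decide +kernel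

theorem sign_S0 : Equiv.Perm.sign S0 = 1 := by decide +kernel

theorem G0_z : ∀ q, G0 (a 2 * q) = a 2 * G0 q := by decide +kernel

theorem G0_inv : G0⁻¹ = G0 := by decide +kernel

/-- `[G0, x]` -/
def K0 (q : Q) : Q := G0 (xa 0 * G0 ((xa 0)⁻¹ * q))

theorem K0_sq : ∀ q, K0 (K0 q) = q := by decide +kernel

theorem K0_one : K0 1 ≠ 1 := by decide +kernel

theorem S0_comm : ∀ q, a 1 * S0 (a 2 * S0⁻¹ q) = S0 (a 2 * S0⁻¹ (a 1 * q)) := by decide +kernel

theorem S0_ne : S0 (a 2 * S0⁻¹ 1) ≠ a 2 := by decide +kernel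

/-! ### The action on the points -/

section act

variable {X : Type*} [Group X] {α : Type*} [Fintype α] [DecidableEq α] (f : X ≃* alternatingGroup α)

/-- the action on the points -/
def A (g : X) (b : α) : α := ((f g : alternatingGroup α) : Equiv.Perm α) b

theorem A_mul (g h : X) (b : α) : A f (g * h) b = A f g (A f h b) := by
  unfold A
  rw [map_mul]
  rfl

theorem A_one (b : α) : A f 1 b = b := by
  unfold A
  rw [map_one]
  rfl

theorem A_inv (g : X) (b : α) : A f g⁻¹ (A f g b) = b := by rw [← A_mul, inv_mul_cancel, A_one]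

theorem A_inv' (g : X) (b : α) : A f g (A f g⁻¹ b) = b := by rw [← A_mul, mul_inv_cancel, A_one]

theorem A_inj {g : X} {b c : α} (h : A f g b = A f g c) : b = c := by rw [← A_inv f g b, h, A_inv]

theorem A_ext {g h : X} (hgh : ∀ b, A f g b = A f h b) : g = h :=
  f.injective (Subtype.ext (Equiv.ext hgh))

theorem exists_A {σ : Equiv.Perm α} (hσ : Equiv.Perm.sign σ = 1) : ∃ g, ∀ b, A f g b = σ b := by
  refine ⟨f.symm ⟨σ, Equiv.Perm.mem_alternatingGroup.2 hσ⟩, fun b => ?_⟩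
  unfold A
  rw [f.apply_symm_apply]

/-- the orbit map -/
def ph (E : Q →* X) (p : α) (q : Q) : α := A f (E q) p

variable {E : Q →* X} {p b : α}

theorem A_ph (q q' : Q) : A f (E q) (ph f E p q') = ph f E p (q * q') := by
  unfold ph
  rw [map_mul, A_mul]

theorem ph_inj (hp : A f (E (a 2)) p ≠ p) : Function.Injective (ph f E p) := by
  intro q q' h
  have h1 : A f (E (q⁻¹ * q')) p = p := by
    rw [map_mul, A_mul]
    change A f (E q⁻¹) (ph f E p q') = p
    rw [← h]
    change A f (E q⁻¹) (A f (E q) p) = p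
    rw [← A_mul, ← map_mul, inv_mul_cancel, map_one, A_one]
  have h2 : ∀ s : Q, s = 1 ∨ s = a 2 ∨ s * s = a 2 := by decide
  rcases h2 (q⁻¹ * q') with h3 | h3 | h3
  · exact (inv_mul_eq_one.1 h3)
  · rw [h3] at h1
    exact absurd h1 hp
  · exfalso
    apply hp
    rw [← h3, map_mul, A_mul, h1, h1]

theorem exists_lift (hp : A f (E (a 2)) p ≠ p) (σ : Equiv.Perm Q) (hσ : Equiv.Perm.sign σ = 1) :
    ∃ g : X, (∀ q, A f g (ph f E p q) = ph f E p (σ q)) ∧ ∀ b ∉ Set.range (ph f E p), A f g b = b := by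
  let φ : Q ↪ α := ⟨ph f E p, ph_inj f hp⟩
  obtain ⟨g, hg⟩ := exists_A f (σ := σ.viaFintypeEmbedding φ)
    (by rw [Equiv.Perm.viaFintypeEmbedding_sign]; exact hσ)
  refine ⟨g, fun q => ?_, fun b hb => ?_⟩
  · rw [hg]
    exact Equiv.Perm.viaFintypeEmbedding_apply_image σ φ q
  · rw [hg]
    exact Equiv.Perm.viaFintypeEmbedding_apply_notMem_range σ φ hb

theorem notMem_range (hb : b ∉ Set.range (ph f E p)) (q : Q) : A f (E q) b ∉ Set.range (ph f E p) := by
  rintro ⟨q', hq'⟩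
  apply hb
  refine ⟨q⁻¹ * q', ?_⟩
  rw [← A_ph, hq', ← A_mul, ← map_mul, inv_mul_cancel, map_one, A_one]

end act

/-! ### (H2): `V` is transitive on the support of `z` -/

section trans

variable {X : Type*} [Group X] [Finite X] {α : Type*} [Fintype α] [DecidableEq α] (f : X ≃* alternatingGroup α)
variable {K L : Subgroup X} {E : Q →* X} {p b : α}

theorem trans (h : Hyp (cls K)) (hL : L ∈ cls K) (hE : ∀ q, E q ∈ L) (hz : E (a 2) = zz L)
    (hp : A f (zz L) p ≠ p) (hb : A f (zz L) b ≠ b) : b ∈ Set.range (ph f E p) := by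
  by_contra hbr
  have hp' : A f (E (a 2)) p ≠ p := by rw [hz]; exact hp
  have hzz := h.zz_mul hL
  obtain ⟨g, hg1, hg2⟩ := exists_lift f hp' G0 sign_G0
  have hgi1 : ∀ q, A f g⁻¹ (ph f E p q) = ph f E p (G0 q) := by
    intro q
    apply A_inj f (g := g)
    rw [A_inv', hg1]
    have h1 : G0 (G0 q) = q := by
      nth_rewrite 1 [← G0_inv]
      exact G0.symm_apply_apply q
    rw [h1]
  have hgi2 : ∀ b ∉ Set.range (ph f E p), A f g⁻¹ b = b := by
    intro b hb
    apply A_inj f (g := g)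
    rw [A_inv', hg2 b hb]
  -- `g` commutes with `z`
  have hgz : g * zz L = zz L * g := by
    rw [← hz]
    apply A_ext f
    intro c
    rw [A_mul, A_mul]
    by_cases hc : c ∈ Set.range (ph f E p)
    · obtain ⟨q, rfl⟩ := hc
      rw [A_ph, hg1, hg1, A_ph, G0_z]
    · rw [hg2 c hc, hg2 _ (notMem_range f hc _)]
  have hLg : cj g L ∈ cls K := h.conj L hL g
  have hzg : zz (cj g L) = zz L := by
    rw [h.zz_cj hL, hgz, mul_inv_cancel_right]
  have hxb : ∀ q, A f (g * E q * g⁻¹) b = A f (E q) b := by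
    intro q
    rw [A_mul, A_mul, hgi2 b hbr, hg2 _ (notMem_range f hbr q)]
  rcases h.h2 L hL _ hLg hzg.symm with h1 | h1
  · -- `L = L^g`
    obtain ⟨k, hk⟩ : ∃ k, k = g * E (xa 0) * g⁻¹ * (E (xa 0))⁻¹ := ⟨_, rfl⟩
    have hkL : k ∈ L := by
      rw [hk]
      refine mul_mem ?_ (inv_mem (hE _))
      rw [h1]
      exact conj_mem_cj (hE _)
    have hk1 : ∀ q, A f k (ph f E p q) = ph f E p (K0 q) := by
      intro q
      rw [hk, A_mul, A_mul, A_mul, ← map_inv, A_ph, hgi1, A_ph, hg1]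
      rfl
    have hk2 : ∀ c ∉ Set.range (ph f E p), A f k c = c := by
      intro c hc
      have h2 := notMem_range f hc (xa 0)⁻¹
      rw [hk, A_mul, A_mul, A_mul, ← map_inv, hgi2 _ h2, ← A_mul f (E (xa 0)), ← map_mul, mul_inv_cancel, map_one,
        A_one, hg2 c hc]
    have hkk : k * k = 1 := by
      apply A_ext f
      intro c
      rw [A_mul, A_one]
      by_cases hc : c ∈ Set.range (ph f E p)
      · obtain ⟨q, rfl⟩ := hc
        rw [hk1, hk1, K0_sq]
      · rw [hk2 c hc, hk2 c hc]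
    have hkne : k ≠ 1 := by
      rintro rfl
      have h2 := hk1 1
      rw [A_one] at h2
      exact K0_one (ph_inj f hp' h2).symm
    have hkz := h.eq_zz hL hkL hkk hkne
    apply hb
    rw [← hkz]
    exact hk2 b hbr
  · -- `[L, L^g] ≤ O(L)`
    obtain ⟨d, hd⟩ : ∃ d, d = E (a 1) * (g * E (xa 0) * g⁻¹) * (E (a 1))⁻¹ * (g * E (xa 0) * g⁻¹)⁻¹ := ⟨_, rfl⟩
    have hdO : d ∈ OO L := by
      rw [hd]
      exact (h1 (commutator_mem_commutator (hE _) (conj_mem_cj (hE _)))).1
    have hconj : ∀ q, ∀ c ∉ Set.range (ph f E p), A f (g * E q * g⁻¹) c = A f (E q) c := by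
      intro q c hc
      rw [A_mul, A_mul, hgi2 c hc, hg2 _ (notMem_range f hc q)]
    have hdz : ∀ c ∉ Set.range (ph f E p), A f d c = A f (E (a 2)) c := by
      intro c hc
      have e1 : (g * E (xa 0) * g⁻¹)⁻¹ = g * E (xa 0)⁻¹ * g⁻¹ := by rw [map_inv]; group
      rw [hd, e1, A_mul, A_mul, A_mul, hconj _ c hc, ← map_inv, hconj _ _ (notMem_range f (notMem_range f hc _) _),
        ← A_mul, ← A_mul, ← A_mul, ← map_mul, ← map_mul, ← map_mul]
      rfl
    have hd1 : A f d b = A f (zz L) b := by rw [hdz b hbr, hz]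
    have hd2 : A f d (A f d b) = b := by
      rw [hd1, ← hz, hdz _ (notMem_range f hbr _), ← A_mul, ← map_mul]
      have h2 : (a 2 : Q) * a 2 = 1 := by decide
      rw [h2, map_one, A_one]
    have hodd : Odd (orderOf d) := by
      rw [← Nat.not_even_iff_odd, even_iff_two_dvd]
      intro h2
      apply odd_OO L
      have h3 := orderOf_dvd_natCard (⟨d, hdO⟩ : OO L)
      rw [Subgroup.orderOf_mk] at h3
      exact h2.trans h3
    obtain ⟨m, hm⟩ := hodd
    have h2 : ∀ n : ℕ, A f (d ^ (2 * n)) b = b := by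
      intro n
      induction n with
      | zero => rw [mul_zero, pow_zero, A_one]
      | succ n ih => rw [mul_add, mul_one, pow_add, pow_two, A_mul, A_mul, hd2, ih]
    have h3 : A f d b = b := by
      have h4 : A f (d ^ (2 * m + 1)) b = b := by rw [← hm, pow_orderOf_eq_one, A_one]
      have h5 : A f (d * d ^ (2 * m)) b = b := by rw [← pow_succ']; exact h4
      rwa [A_mul, h2] at h5
    exact hb (by rw [← hd1]; exact h3)

end trans

/-! ### The contradiction -/

section kill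

variable {X : Type*} [Group X] [Finite X] {α : Type*} [Fintype α] [DecidableEq α] (f : X ≃* alternatingGroup α)
variable {K L : Subgroup X} {E : Q →* X} {p b : α}

/-- an element of `L` fixing a point of the support of `zz L` is trivial on the support -/
theorem triv (h : Hyp (cls K)) (hL : L ∈ cls K) {l : X} (hl : l ∈ L) {c : α} (hc : A f (zz L) c ≠ c)
    (hlc : A f l c = c) {d : α} (hd : A f (zz L) d ≠ d) : A f l d = d := by
  have hpow : ∀ n : ℕ, A f (l ^ n) c = c := by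
    intro n
    induction n with
    | zero => rw [pow_zero, A_one]
    | succ n ih => rw [pow_succ, A_mul, hlc, ih]
  have hodd : Odd (orderOf l) := by
    rw [← Nat.not_even_iff_odd]
    rintro ⟨m, hm⟩
    have hpos := orderOf_pos l
    have h1 : l ^ m * l ^ m = 1 := by rw [← pow_add, ← hm, pow_orderOf_eq_one]
    have h2 : l ^ m ≠ 1 := by
      intro h2
      have h3 := Nat.le_of_dvd (by omega) (orderOf_dvd_of_pow_eq_one h2)
      omega
    have h3 := h.eq_zz hL (pow_mem hl m) h1 h2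
    apply hc
    rw [← h3, hpow]
  exact ExclAlt.fixes f (h.zz_mul hL) (h.le_centralizer hL) (h.sub L hL)
    (fun t ht htt ht1 => h.eq_zz hL ht htt ht1) hl hodd hd

include f in
/-- **no member in an alternating group** -/
theorem kill (h : Hyp (cls K)) : False := by
  have hK := self_mem_cls K
  obtain ⟨P, hP⟩ := Hyp.exists_syl K
  obtain ⟨c, y, n, hgq⟩ := h.exists_gq hK hP
  obtain ⟨x, hx, hx4, hxy⟩ := hgq.exists_inverting hgq.v_mem hgq.orderOf_v
  have hyy : y * y = zz K := hgq.v_sq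
  have hxx : x * x = zz K := h.sq_eq_zz hK (hP.1 hx) hx4
  have hzz := h.zz_mul hK
  have h1 : y ^ 4 = 1 := by
    rw [show 4 = 2 * 2 from rfl, pow_mul, pow_two y, hyy, pow_two, hzz]
  have h2 : x * x = y ^ 2 := by rw [hxx, pow_two, hyy]
  have h3 : y * x = x * y⁻¹ := by
    have h4 := congrArg (fun t => t⁻¹ * x) hxy
    simp only [mul_inv_rev, inv_inv] at h4
    rw [← h4]; group
  obtain ⟨E, hE⟩ : ∃ E, E = EQ y x h1 h2 h3 := ⟨_, rfl⟩
  have hEa1 : E (a 1) = y := by rw [hE]; exact EQ_a1 h1 h2 h3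
  have hEx : E (xa 0) = x := by rw [hE]; exact EQ_xa0 h1 h2 h3
  have hEz : E (a 2) = zz K := by
    have h4 : (a 2 : Q) = a 1 * a 1 := by decide
    rw [h4, map_mul, hEa1, hyy]
  have hEK : ∀ q, E q ∈ K := by
    intro q
    have h4 : ∀ q : Q, ∃ i : Fin 4, q = (a 1) ^ (i : ℕ) ∨ q = xa 0 * (a 1) ^ (i : ℕ) := by decide
    obtain ⟨i, h5 | h5⟩ := h4 q
    · rw [h5, map_pow, hEa1]
      exact pow_mem (hP.1 hgq.v_mem) _
    · rw [h5, map_mul, map_pow, hEa1, hEx]
      exact mul_mem (hP.1 hx) (pow_mem (hP.1 hgq.v_mem) _)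
  obtain ⟨p, hp⟩ : ∃ p, A f (zz K) p ≠ p := by
    by_contra hcon
    push Not at hcon
    apply h.zz_ne hK
    apply A_ext f
    intro b
    rw [hcon, A_one]
  have hp' : A f (E (a 2)) p ≠ p := by rw [hEz]; exact hp
  have hφ := ph_inj f hp'
  have hmov : ∀ b, A f (zz K) b ≠ b ↔ b ∈ Set.range (ph f E p) := by
    intro b
    constructor
    · exact trans f h hK hEK hEz hp
    · rintro ⟨q, rfl⟩ h4
      rw [← hEz, A_ph] at h4
      have h5 := hφ h4
      have h6 : ∀ q : Q, a 2 * q ≠ q := by decide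
      exact h6 q h5
  obtain ⟨g, hg1, hg2⟩ := exists_lift f hp' S0 sign_S0
  have hgi1 : ∀ q, A f g⁻¹ (ph f E p q) = ph f E p (S0⁻¹ q) := by
    intro q
    apply A_inj f (g := g)
    rw [A_inv', hg1]
    congr 1
    exact (S0.apply_symm_apply q).symm
  have hgi2 : ∀ b ∉ Set.range (ph f E p), A f g⁻¹ b = b := by
    intro b hb
    apply A_inj f (g := g)
    rw [A_inv', hg2 b hb]
  obtain ⟨L, hLdef⟩ : ∃ L, L = cj g K := ⟨_, rfl⟩
  have hL : L ∈ cls K := by rw [hLdef]; exact ⟨g, rfl⟩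
  have hzL : zz L = g * zz K * g⁻¹ := by rw [hLdef, h.zz_cj hK]
  have hzL1 : ∀ q, A f (zz L) (ph f E p q) = ph f E p (S0 (a 2 * S0⁻¹ q)) := by
    intro q
    rw [hzL, A_mul, A_mul, hgi1, ← hEz, A_ph, hg1]
  have hzL2 : ∀ b ∉ Set.range (ph f E p), A f (zz L) b = b := by
    intro b hb
    have h4 : A f (zz K) b = b := by
      by_contra h5
      exact hb ((hmov b).1 h5)
    rw [hzL, A_mul, A_mul, hgi2 b hb, h4, hg2 b hb]
  -- `y` commutes with `zz L`
  have hyz : y * zz L = zz L * y := by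
    rw [← hEa1]
    apply A_ext f
    intro b
    rw [A_mul, A_mul]
    by_cases hb : b ∈ Set.range (ph f E p)
    · obtain ⟨q, rfl⟩ := hb
      rw [hzL1, A_ph, A_ph, hzL1, S0_comm]
    · rw [hzL2 b hb, hzL2 _ (notMem_range f hb _)]
  have hyN : y ∈ normalizer (L : Set X) := by
    refine h.h3 K hK L hL y (hP.1 hgq.v_mem) (isPGroup_zpowers hP.2.1 hgq.v_mem) ?_ hyz
    rw [hgq.orderOf_v]
  -- `V'`
  obtain ⟨E', hE'⟩ : ∃ E' : Q →* X, E' = (MulAut.conj g).toMonoidHom.comp E := ⟨_, rfl⟩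
  have hE'q : ∀ q, E' q = g * E q * g⁻¹ := by intro q; rw [hE']; rfl
  have hE'L : ∀ q, E' q ∈ L := by
    intro q
    rw [hE'q, hLdef]
    exact conj_mem_cj (hEK q)
  have hE'z : E' (a 2) = zz L := by rw [hE'q, hEz, hzL]
  obtain ⟨p', hp'def⟩ : ∃ p', p' = A f g p := ⟨_, rfl⟩
  have hph : ∀ q, ph f E' p' q = ph f E p (S0 q) := by
    intro q
    rw [← hg1]
    unfold ph
    rw [hE'q, hp'def, ← A_mul, inv_mul_cancel_right, A_mul]
  have hpL : A f (zz L) p' ≠ p' := by
    rw [hzL, hp'def, ← A_mul, inv_mul_cancel_right, A_mul]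
    intro h4
    exact hp (A_inj f h4)
  have hpL' : A f (E' (a 2)) p' ≠ p' := by rw [hE'z]; exact hpL
  have hφ' := ph_inj f hpL'
  have hmovL : ∀ b, A f (zz L) b ≠ b ↔ b ∈ Set.range (ph f E' p') := by
    intro b
    constructor
    · exact trans f h hL hE'L hE'z hpL
    · rintro ⟨q, rfl⟩ h4
      rw [← hE'z, A_ph] at h4
      have h5 := hφ' h4
      have h6 : ∀ q : Q, a 2 * q ≠ q := by decide
      exact h6 q h5
  have hph0 : ph f E' p' 1 = p' := by
    unfold ph
    rw [map_one, A_one]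
  -- elements commuting with `zz L` preserve the support
  have hpres : ∀ l, l * zz L = zz L * l → ∀ q, ∃ q', A f l (ph f E' p' q) = ph f E' p' q' := by
    intro l hl q
    have h4 : A f (zz L) (A f l (ph f E' p' q)) ≠ A f l (ph f E' p' q) := by
      rw [← A_mul, ← hl, A_mul]
      intro h5
      exact (hmovL _).2 ⟨q, rfl⟩ (A_inj f h5)
    obtain ⟨q', hq'⟩ := (hmovL _).1 h4
    exact ⟨q', hq'.symm⟩
  have hconjL : ∀ q, y * E' q * y⁻¹ ∈ L := fun q => (mem_normalizer_iff.1 hyN _).1 (hE'L q)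
  have hcz : ∀ l ∈ L, l * zz L = zz L * l := fun l hl =>
    mem_centralizer_singleton_iff.1 (h.le_centralizer hL hl)
  have hex : ∀ q, ∃ q', ∀ s, A f (y * E' q * y⁻¹) (ph f E' p' s) = ph f E' p' (q' * s) := by
    intro q
    obtain ⟨q', hq'⟩ := hpres _ (hcz _ (hconjL q)) 1
    refine ⟨q', fun s => ?_⟩
    have h4 : A f ((E' q')⁻¹ * (y * E' q * y⁻¹)) (ph f E' p' 1) = ph f E' p' 1 := by
      rw [A_mul, hq', hph0]
      unfold ph
      rw [A_inv]
    have h5 := triv f h hL (mul_mem (inv_mem (hE'L q')) (hconjL q)) ((hmovL _).2 ⟨1, rfl⟩) h4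
      ((hmovL _).2 ⟨s, rfl⟩)
    rw [A_mul] at h5
    have h6 := congrArg (A f (E' q')) h5
    rw [A_inv', A_ph] at h6
    exact h6
  choose β hβ using hex
  have hβmul : ∀ q q2, β (q * q2) = β q * β q2 := by
    intro q q2
    apply hφ'
    have h4 := hβ (q * q2) 1
    have h5 : y * E' (q * q2) * y⁻¹ = (y * E' q * y⁻¹) * (y * E' q2 * y⁻¹) := by
      rw [map_mul]; group
    rw [h5, A_mul, hβ, hβ, mul_one, mul_one] at h4
    exact h4.symm
  have hβinj : ∀ q, β q = 1 → q = 1 := by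
    intro q hq
    have hyi : y⁻¹ * zz L = zz L * y⁻¹ := by
      rw [inv_mul_eq_iff_eq_mul, ← mul_assoc, hyz, mul_inv_cancel_right]
    obtain ⟨s, hs⟩ := hpres _ hyi 1
    have h4 := hβ q 1
    rw [hq, one_mul, A_mul, A_mul, hs, A_ph] at h4
    have h5 := congrArg (A f y⁻¹) h4
    rw [A_inv, hs] at h5
    have h6 := hφ' h5
    exact mul_eq_right.1 h6
  let βh : Q →* Q := MonoidHom.mk' β hβmul
  have hbij : Function.Bijective βh := by
    refine Finite.injective_iff_bijective.1 ?_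
    rw [injective_iff_map_eq_one]
    exact hβinj
  let βe : MulAut Q := MulEquiv.ofBijective βh hbij
  obtain ⟨r, hr⟩ := hpres y hyz 1
  have hy1 : ∀ q, A f y (ph f E' p' q) = ph f E' p' (β q * r) := by
    intro q
    have h4 : A f y (ph f E' p' q) = A f (y * E' q * y⁻¹) (A f y (ph f E' p' 1)) := by
      rw [← A_mul, inv_mul_cancel_right, A_mul]
      congr 1
      rw [A_ph, mul_one]
    rw [h4, hr, hβ]
  have hzK : ∀ q, A f (zz K) (ph f E' p' q) = ph f E' p' (β (β q * r) * r) := by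
    intro q
    rw [← hyy, A_mul, hy1, hy1]
  have hhol := hol βe r (fun q h4 => by
      have h5 : A f (zz K) (ph f E' p' q) = ph f E' p' q := by
        rw [hzK]
        exact congrArg (ph f E' p') h4
      rw [hph] at h5
      exact (hmov _).2 ⟨_, rfl⟩ h5)
    (fun q => by
      apply hφ'
      have h5 : A f (zz K * zz K) (ph f E' p' q) = ph f E' p' (β (β (β (β q * r) * r) * r) * r) := by
        rw [A_mul, hzK, hzK]
      rw [hzz, A_one] at h5
      exact h5.symm)
  have h4 : A f (zz K) (ph f E p 1) = A f (zz L) (ph f E p 1) := by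
    have h5 : ph f E p 1 = ph f E' p' (S0⁻¹ 1) := by
      rw [hph]
      have h6 : S0 (S0⁻¹ 1) = 1 := S0.apply_symm_apply 1
      rw [h6]
    rw [h5, hzK, ← hE'z, A_ph]
    exact congrArg (ph f E' p') (hhol (S0⁻¹ 1))
  rw [hzL1, ← hEz, A_ph, mul_one] at h4
  exact S0_ne (hφ h4).symm

end kill

/-! ### Automorphisms -/

/-- the commutator subgroup of `Aut(A_n)` consists of inner automorphisms -/
theorem cubeInner {X : Type*} [Group X] {n : ℕ} (hn : 7 ≤ n) (e : X ≃* alternatingGroup (Fin n)) : CubeInner X := by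
  obtain ⟨m, rfl⟩ : ∃ m, n = m + 2 := ⟨n - 2, by omega⟩
  have key : ∀ β : MulAut X, ∃ σ : Equiv.Perm (Fin (m + 2)), ∀ x : X,
      (e (β x) : Equiv.Perm (Fin (m + 2))) = σ * e x * σ⁻¹ := by
    intro β
    obtain ⟨σ, hσ⟩ := StandardComponent.AltAut.exists_conj (by omega : 5 ≤ m) (MulAut.congr e β)
    refine ⟨σ, fun x => ?_⟩
    rw [← hσ]
    change (e (β x) : Equiv.Perm (Fin (m + 2))) = e (β (e.symm (e x)))
    rw [e.symm_apply_apply]
  have key' : ∀ (β : MulAut X) (σ : Equiv.Perm (Fin (m + 2))), (∀ x : X,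
      (e (β x) : Equiv.Perm (Fin (m + 2))) = σ * e x * σ⁻¹) → ∀ x : X,
      (e (β⁻¹ x) : Equiv.Perm (Fin (m + 2))) = σ⁻¹ * e x * σ := by
    intro β σ h x
    have h1 := h (β⁻¹ x)
    have h2 : β (β⁻¹ x) = x := β.apply_symm_apply x
    rw [h2] at h1
    rw [h1]; group
  have h1 : commutator (MulAut X) ≤ (MulAut.conj (G := X)).range := by
    rw [commutator_def, commutator_le]
    intro β _ γ _
    obtain ⟨σ, hσ⟩ := key β
    obtain ⟨τ, hτ⟩ := key γ
    have hev : Equiv.Perm.sign (σ * τ * σ⁻¹ * τ⁻¹) = 1 := by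
      rw [Equiv.Perm.sign_mul, Equiv.Perm.sign_mul, Equiv.Perm.sign_mul, Equiv.Perm.sign_inv, Equiv.Perm.sign_inv]
      rcases Int.units_eq_one_or (Equiv.Perm.sign σ) with h2 | h2 <;>
        rcases Int.units_eq_one_or (Equiv.Perm.sign τ) with h3 | h3 <;> rw [h2, h3] <;> decide
    refine ⟨e.symm ⟨_, Equiv.Perm.mem_alternatingGroup.2 hev⟩, ?_⟩
    refine MulEquiv.ext fun x => e.injective (Subtype.ext ?_)
    rw [MulAut.conj_apply, map_mul, map_mul, map_inv, e.apply_symm_apply]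
    change (σ * τ * σ⁻¹ * τ⁻¹) * (e x : Equiv.Perm (Fin (m + 2))) * (σ * τ * σ⁻¹ * τ⁻¹)⁻¹ =
      (e (β (γ (β⁻¹ (γ⁻¹ x)))) : Equiv.Perm (Fin (m + 2)))
    rw [hσ, hτ, key' β σ hσ, key' γ τ hτ]
    group
  intro β hβ
  obtain ⟨l, hl⟩ := h1 hβ
  exact ⟨l ^ 3, by rw [map_pow, hl]⟩

/-- **alternating groups** -/
theorem alt {G : Type*} [Group G] [Finite G] {K : Subgroup G} (w : AssemblyNil.W3 G K)
    (h : ∃ n : ℕ, Odd n ∧ 7 ≤ n ∧
      Nonempty (↥(generalizedFittingSubgroup G) ≃* ↥(alternatingGroup (Fin n)))) : False := by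
  obtain ⟨n, -, hn, ⟨e⟩⟩ := h
  obtain ⟨K0, h0, -, -⟩ := exists_down w.toFS (cubeInner hn e) w.hyp w.nil w.c3
  exact kill e h0

end Cfsg.Agent.Cit.Nil.Unbal.Alt
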