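import Cfsg.Agent.Cit.AssemblyNil

/-!
# S1309, unbalanced groups: restriction to a normal subgroup

`N` normal in `G`, containing a Sylow 2-subgroup of the member `K`: the class of `K ∩ N` in `N` satisfies the same
hypothesis (`hyp_down`), and is 2-nilpotent if `K` is (`nil_down`).
`exists_down` : the subgroup `F*(G)`, if the elements of the commutator subgroup of `Aut(F*(G))` have inner cubes and
`K` satisfies (C3).
-/

set_option autoImplicit false
set_option linter.style.haveILetI false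
set_option linter.unusedSectionVars false

namespace Cfsg.Agent.Cit.Nil.Unbal

open Subgroup Cfsg Cit Nil Transfer.SL23Recog
open scoped commutatorElement

section down

variable {G : Type*} [Group G] {N : Subgroup G}

theorem cj_subgroupOf (_ : N.Normal) (g : N) (K : Subgroup G) :
    cj g (K.subgroupOf N) = (cj (g : G) K).subgroupOf N := by
  ext x
  rw [mem_cj, mem_subgroupOf, mem_subgroupOf, mem_cj]
  rfl

variable [Finite G] {K Q : Subgroup G}

/-- the members `L` of `cls K` contain a Sylow 2-subgroup in `N` -/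
theorem exists_syl_le (hN : N.Normal) (hQ : Syl Q K) (hQN : Q ≤ N) {L : Subgroup G} (hL : L ∈ cls K) :
    ∃ Q', Syl Q' L ∧ Q' ≤ N := by
  obtain ⟨g, rfl⟩ := hL
  refine ⟨cj g Q, hQ.cj g, ?_⟩
  rintro _ ⟨x, hx, rfl⟩
  exact hN.conj_mem x (hQN hx) g

/-- every Sylow 2-subgroup of `L` is in `N` -/
theorem syl_le (hN : N.Normal) (hQ : Syl Q K) (hQN : Q ≤ N) {L P : Subgroup G} (hL : L ∈ cls K) (hP : Syl P L) :
    P ≤ N := by
  obtain ⟨Q', hQ', hQ'N⟩ := exists_syl_le hN hQ hQN hL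
  obtain ⟨k, -, rfl⟩ := hQ'.exists_conj hP
  rintro _ ⟨x, hx, rfl⟩
  exact hN.conj_mem x (hQ'N hx) k

theorem zz_mem_N (h : Hyp (cls K)) (hN : N.Normal) (hQ : Syl Q K) (hQN : Q ≤ N) {L : Subgroup G}
    (hL : L ∈ cls K) : zz L ∈ N := by
  obtain ⟨Q', hQ', hQ'N⟩ := exists_syl_le hN hQ hQN hL
  obtain ⟨c, v, n, hq⟩ := h.exists_gq hL hQ'
  exact hQ'N hq.z_mem

/-- `(zz L₀ : G) = zz L` -/
theorem coe_zz (h : Hyp (cls K)) (hN : N.Normal) (hQ : Syl Q K) (hQN : Q ≤ N) {L : Subgroup G}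
    (hL : L ∈ cls K) : ((zz (L.subgroupOf N) : N) : G) = zz L := by
  have h1 : ∃ t ∈ L.subgroupOf N, orderOf t = 2 := by
    refine ⟨⟨zz L, zz_mem_N h hN hQ hQN hL⟩, h.zz_mem hL, ?_⟩
    rw [Subgroup.orderOf_mk]
    exact h.orderOf_zz hL
  obtain ⟨h2, h3⟩ := zz_spec h1
  refine h.uniq L hL _ h2 ?_
  rw [Subgroup.orderOf_coe]
  exact h3

theorem card_subgroupOf_odd {M : Subgroup G} (hM : ¬ 2 ∣ Nat.card M) : ¬ 2 ∣ Nat.card (M.subgroupOf N) := by
  intro h1
  apply hM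
  have h2 : Nat.card (M.subgroupOf N) = Nat.card (M ⊓ N : Subgroup G) := by
    rw [← subgroupOf_map_subtype, card_map_of_injective N.subtype_injective]
  rw [h2] at h1
  exact h1.trans (card_dvd_of_le inf_le_left)

/-- `O(L) ∩ N ≤ O(L ∩ N)` -/
theorem OO_down (L : Subgroup G) : (OO L).subgroupOf N ≤ OO (L.subgroupOf N) := by
  refine le_OO ?_ ?_ ?_
  · intro x hx
    exact OO_le L hx
  · intro x hx
    have h1 : (x : G) ∈ L := hx
    rw [mem_normalizer_iff]
    intro y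
    rw [mem_subgroupOf, mem_subgroupOf]
    exact (mem_normalizer_iff.1 (le_normalizer_OO L h1)) y
  · exact card_subgroupOf_odd (odd_OO L)

/-- a Sylow 2-subgroup of `L ∩ N` is one of `L` -/
theorem syl_up (hN : N.Normal) (hQ : Syl Q K) (hQN : Q ≤ N) {L : Subgroup G} (hL : L ∈ cls K) {P : Subgroup N}
    (hP : Syl P (L.subgroupOf N)) : Syl (P.map N.subtype) L := by
  obtain ⟨Q', hQ', hQ'N⟩ := exists_syl_le hN hQ hQN hL
  have h0 : Syl (Q'.subgroupOf N) (L.subgroupOf N) := by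
    refine ⟨fun x hx => hQ'.1 hx, hQ'.2.1.comap_subtype, ?_⟩
    have h1 : (Q'.subgroupOf N).relIndex (L.subgroupOf N) = Q'.relIndex (L ⊓ N) := by
      rw [← relIndex_map_map_of_injective _ _ N.subtype_injective, subgroupOf_map_subtype,
        subgroupOf_map_subtype, inf_eq_left.2 hQ'N]
    rw [h1]
    intro h2
    apply hQ'.2.2
    exact h2.trans ⟨(L ⊓ N).relIndex L,
      (relIndex_mul_relIndex Q' (L ⊓ N) L (le_inf hQ'.1 hQ'N) inf_le_left).symm⟩
  obtain ⟨k, hk, rfl⟩ := h0.exists_conj hP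
  have h3 : (cj k (Q'.subgroupOf N)).map N.subtype = cj (k : G) Q' := by
    rw [cj_subgroupOf hN, subgroupOf_map_subtype, inf_eq_left]
    rintro _ ⟨x, hx, rfl⟩
    exact hN.conj_mem x (hQ'N hx) k
  rw [h3]
  have h4 := hQ'.cj (k : G)
  rwa [mem_normalizer_iff_cj.1 (le_normalizer (show (k : G) ∈ L from hk))] at h4

/-- **restriction to a normal subgroup** -/
theorem hyp_down (h : Hyp (cls K)) (hN : N.Normal) (hQ : Syl Q K) (hQN : Q ≤ N) : Hyp (cls (K.subgroupOf N)) := by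
  haveI : Fact (Nat.Prime 2) := ⟨Nat.prime_two⟩
  have key : ∀ L0 ∈ cls (K.subgroupOf N), ∃ L ∈ cls K, L0 = L.subgroupOf N := by
    rintro L0 ⟨g, rfl⟩
    exact ⟨cj (g : G) K, ⟨g, rfl⟩, cj_subgroupOf hN g K⟩
  refine ⟨?_, ?_, ?_, ?_, ?_, ?_⟩
  · rintro L0 ⟨g, rfl⟩ k
    exact ⟨k * g, by rw [cj_mul]⟩
  · intro L0 hL0
    obtain ⟨L, hL, rfl⟩ := key L0 hL0
    obtain ⟨P, hP⟩ := Hyp.exists_syl (L.subgroupOf N)
    have hPG : Syl (P.map N.subtype) L := syl_up hN hQ hQN hL hP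
    obtain ⟨n, ⟨e⟩⟩ := h.isGQ hL hPG
    obtain ⟨T, hT⟩ := hP.exists_sylow
    refine ⟨T, n, ⟨?_⟩⟩
    have e1 : ↥(T : Subgroup (L.subgroupOf N)) ≃* ↥P := by
      rw [hT]
      exact subgroupOfEquivOfLe hP.1
    exact (e1.trans (P.equivMapOfInjective N.subtype N.subtype_injective)).trans e
  · intro L0 hL0 t ht ht2
    obtain ⟨L, hL, rfl⟩ := key L0 hL0
    apply Subtype.ext
    rw [coe_zz h hN hQ hQN hL]
    exact h.uniq L hL t ht (by rw [Subgroup.orderOf_coe]; exact ht2)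
  · intro L0 hL0
    obtain ⟨L, hL, rfl⟩ := key L0 hL0
    have h1 := h.sub L hL
    let f : centralizer ({zz (L.subgroupOf N)} : Set N) →* centralizer ({zz L} : Set G) :=
      { toFun := fun x => ⟨((x : N) : G), by
          rw [mem_centralizer_singleton_iff, ← coe_zz h hN hQ hQN hL]
          exact congrArg Subtype.val (mem_centralizer_singleton_iff.1 x.2)⟩
        map_one' := rfl
        map_mul' := fun _ _ => rfl }
    exact h1.comap f
  · intro L0 hL0 M0 hM0 hz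
    obtain ⟨L, hL, rfl⟩ := key L0 hL0
    obtain ⟨M, hM, rfl⟩ := key M0 hM0
    have hz' : zz L = zz M := by
      rw [← coe_zz h hN hQ hQN hL, ← coe_zz h hN hQ hQN hM, hz]
    rcases h.h2 L hL M hM hz' with h1 | h1
    · left; rw [h1]
    · right
      have h2 : ⁅L.subgroupOf N, M.subgroupOf N⁆ ≤ (⁅L, M⁆).subgroupOf N := by
        rw [commutator_le]
        intro a ha b hb
        exact commutator_mem_commutator (show (a : G) ∈ L from ha) (show (b : G) ∈ M from hb)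
      exact le_inf (fun x hx => OO_down L (h1 (h2 hx)).1) (fun x hx => OO_down M (h1 (h2 hx)).2)
  · intro L0 hL0 M0 hM0 y hy hy2 hy4 hyz
    obtain ⟨L, hL, rfl⟩ := key L0 hL0
    obtain ⟨M, hM, rfl⟩ := key M0 hM0
    have h1 := h.h3 L hL M hM (y : G) hy ?_ ?_ ?_
    · rw [mem_normalizer_iff]
      intro x
      rw [mem_subgroupOf, mem_subgroupOf]
      exact (mem_normalizer_iff.1 h1) x
    · have h3 : zpowers (y : G) = (zpowers y).map N.subtype := by
        rw [MonoidHom.map_zpowers]; rfl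
      rw [h3]
      exact hy2.map _
    · rw [Subgroup.orderOf_coe]; exact hy4
    · rw [← coe_zz h hN hQ hQN hM]
      exact congrArg Subtype.val hyz

theorem nil_down (hn : NilK K) (hN : N.Normal) (hQ : Syl Q K) (hQN : Q ≤ N) : NilK (K.subgroupOf N) := by
  intro P hP
  have hPG := syl_up hN hQ hQN (self_mem_cls K) hP
  intro k hk
  have h1 : (k : G) ∈ OO K ⊔ P.map N.subtype := hn _ hPG hk
  have h2 : P.map N.subtype ≤ normalizer (OO K : Set G) := hPG.1.trans (le_normalizer_OO K)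
  rw [sup_comm] at h1
  obtain ⟨a, ha, o, ho, hao⟩ := OneBasic.exists_mul_of_mem_sup h2 h1
  obtain ⟨a', ha', rfl⟩ := ha
  have hoN : o ∈ N := by
    have h3 : o = (N.subtype a')⁻¹ * (k : G) := by rw [hao, inv_mul_cancel_left]
    rw [h3]
    exact mul_mem (inv_mem a'.2) k.2
  have h4 : (⟨o, hoN⟩ : N) ∈ OO (K.subgroupOf N) := OO_down K ho
  have h5 : k = a' * ⟨o, hoN⟩ := Subtype.ext hao
  rw [h5]
  exact mul_mem (mem_sup_right ha') (mem_sup_left h4)

end down

/-! ### `Q ≤ F*(G)` -/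

section inner

variable {G : Type*} [Group G] [Finite G]

/-- the elements of the commutator subgroup of `Aut(X)` have inner cubes -/
def CubeInner (X : Type*) [Group X] : Prop := ∀ α ∈ commutator (MulAut X), ∃ l, α ^ 3 = MulAut.conj l

/-- a 2-element of `G'` is in `F*(G)` -/
theorem mem_fstar (fs : AssemblyNil.FS G) (hc : CubeInner ↥(generalizedFittingSubgroup G)) {q : G}
    (hq : q ∈ commutator G) (h4 : q ^ 4 = 1) : q ∈ generalizedFittingSubgroup G := by
  obtain ⟨X, hX⟩ : ∃ X, X = generalizedFittingSubgroup G := ⟨_, rfl⟩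
  have hXn : X.Normal := by rw [hX]; exact Lib.GenFitting.genFitting_normal (G := G)
  have hcen : centralizer (X : Set G) = ⊥ := by rw [hX]; exact End.centralizer_fstar fs.simple fs.na
  rw [← hX] at hc ⊢
  have h1 : MulAut.conjNormal q ∈ commutator (MulAut X) := by
    have h2 : (commutator G).map (MulAut.conjNormal (H := X)) ≤ commutator (MulAut X) := by
      rw [commutator_def, commutator_def, Subgroup.map_commutator]
      exact commutator_mono le_top le_top
    exact h2 ⟨q, hq, rfl⟩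
  obtain ⟨l, hl⟩ := hc _ h1
  have h3 : (l : G)⁻¹ * q ^ 3 ∈ centralizer (X : Set G) := by
    rw [mem_centralizer_iff]
    intro x hx
    have h5 := congrArg (fun α : MulAut X => ((α ⟨x, hx⟩ : X) : G)) hl
    have h6 : q ^ 3 * x * (q ^ 3)⁻¹ = (l : G) * x * (l : G)⁻¹ := by
      have h7 : (MulAut.conjNormal q ^ 3 : MulAut X) = MulAut.conjNormal (q ^ 3) := (map_pow _ q 3).symm
      rw [h7] at h5
      exact h5
    calc x * ((l : G)⁻¹ * q ^ 3) = (l : G)⁻¹ * ((l : G) * x * (l : G)⁻¹) * q ^ 3 := by group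
      _ = (l : G)⁻¹ * (q ^ 3 * x * (q ^ 3)⁻¹) * q ^ 3 := by rw [h6]
      _ = (l : G)⁻¹ * q ^ 3 * x := by group
  rw [hcen, mem_bot, inv_mul_eq_one] at h3
  have h5 : q⁻¹ = q ^ 3 := by
    rw [inv_eq_iff_mul_eq_one, ← pow_succ']
    exact h4
  rw [← inv_inv q, h5, ← h3]
  exact inv_mem l.2

/-- **`Q ≤ F*(G)`** -/
theorem le_fstar (fs : AssemblyNil.FS G) (hc : CubeInner ↥(generalizedFittingSubgroup G)) {K : Subgroup G}
    (h : Hyp (cls K)) (h3 : C3 K) : ∃ Q, Syl Q K ∧ Nat.card Q = 8 ∧ Q ≤ generalizedFittingSubgroup G := by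
  obtain ⟨Q, hQ, h8, c, hcK, hcQ, hc3, q, hq, hcq⟩ := h3
  refine ⟨Q, hQ, h8, ?_⟩
  obtain ⟨m, hm⟩ := h.isGQ (self_mem_cls K) hQ
  obtain ⟨d, z, hd⟩ := Transfer.QuatSylow.exists_isQuat Q (m + 1) hm
  have hodd : Odd (orderOf c) := by
    obtain ⟨k, hk⟩ := hc3 ⟨c, mem_zpowers c⟩
    have hk' : c ^ 3 ^ k = 1 := congrArg Subtype.val hk
    exact Odd.of_dvd_nat (Odd.pow (by decide)) (orderOf_dvd_of_pow_eq_one hk')
  have hcn : c ∉ centralizer (Q : Set G) := fun h5 => hcq (mem_centralizer_iff.1 h5 q hq).symm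
  obtain ⟨i, j, t, ⟨hrel, hi2, hto⟩, hi, hj, ht, hcl⟩ := Slrel.exists_slrel hd Q le_rfl c hcQ hodd hcn
  have hi4 : i ^ 4 = 1 := hrel.hi
  have hj4 : j ^ 4 = 1 := by
    have h5 := hrel.hj
    calc j ^ 4 = (j ^ 2) ^ 2 := by rw [← pow_mul]
      _ = (i ^ 2) ^ 2 := by rw [h5]
      _ = 1 := by rw [← pow_mul]; exact hi4
  have hci : i ∈ commutator G := by
    have h5 : i = ⁅t, j⁆ := by
      rw [commutatorElement_def, hrel.htj, mul_inv_cancel_right]
    rw [h5]
    exact commutator_mem_commutator (mem_top t) (mem_top j)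
  have hcj : j ∈ commutator G := by
    rw [← hrel.hti]
    exact (inferInstance : (commutator G).Normal).conj_mem i hci t
  refine hcl.trans ?_
  rw [closure_le]
  rintro x (rfl | rfl)
  · exact mem_fstar fs hc hci hi4
  · exact mem_fstar fs hc hcj hj4

/-- **restriction to `F*(G)`** -/
theorem exists_down (fs : AssemblyNil.FS G) (hc : CubeInner ↥(generalizedFittingSubgroup G)) {K : Subgroup G}
    (h : Hyp (cls K)) (hn : NilK K) (h3 : C3 K) :
    ∃ K0 : Subgroup ↥(generalizedFittingSubgroup G), Hyp (cls K0) ∧ NilK K0 ∧ ∃ Q0, Syl Q0 K0 ∧ Nat.card Q0 = 8 := by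
  obtain ⟨Q, hQ, h8, hQX⟩ := le_fstar fs hc h h3
  have hXn : (generalizedFittingSubgroup G).Normal := Lib.GenFitting.genFitting_normal (G := G)
  refine ⟨K.subgroupOf _, hyp_down h hXn hQ hQX, nil_down hn hXn hQ hQX, ?_⟩
  obtain ⟨P, hP⟩ := Hyp.exists_syl (K.subgroupOf (generalizedFittingSubgroup G))
  refine ⟨P, hP, ?_⟩
  have h5 := syl_up hXn hQ hQX (self_mem_cls K) hP
  obtain ⟨k, -, hk⟩ := hQ.exists_conj h5
  rw [← card_map_of_injective (generalizedFittingSubgroup G).subtype_injective, ← hk, card_cj, h8]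

end inner

end Cfsg.Agent.Cit.Nil.Unbal
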