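import Cfsg.Agent.Cit.Nil.Unbal.Down
import Cfsg.Agent.StdLThreeFour.Facts1
import Cfsg.Agent.StdL3.OuterFacts

/-!
# S1309, unbalanced groups: `L₃(4)`

`Heis X` : every involution `z` has a centraliser of class at most 2 with elementary abelian commutators; an element `i`
with `i² = z` has a commutator `≠ 1, z` with an element of `C(z)`.
`false_of_heis` : such a group has no member; `heis_psl` : `PSL(3, F)`, `|F| = 4`, is such a group.
-/

set_option autoImplicit false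
set_option linter.style.haveILetI false
set_option linter.unusedSectionVars false

namespace Cfsg.Agent.Cit.Nil.Unbal

open Subgroup Cfsg Cit Nil

/-- see the head of the file -/
structure Heis (X : Type*) [Group X] : Prop where
  cen : ∀ z : X, z ≠ 1 → z * z = 1 → ∀ a b, a * z = z * a → b * z = z * b →
    (∀ c, c * z = z * c → a * b * a⁻¹ * b⁻¹ * c = c * (a * b * a⁻¹ * b⁻¹)) ∧
      a * b * a⁻¹ * b⁻¹ * (a * b * a⁻¹ * b⁻¹) = 1
  mov : ∀ i : X, i * i ≠ 1 → i * i * (i * i) = 1 →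
    ∃ t, t * (i * i) = i * i * t ∧ t * i * t⁻¹ * i⁻¹ ≠ 1 ∧ t * i * t⁻¹ * i⁻¹ ≠ i * i

theorem Heis.congr {X Y : Type*} [Group X] [Group Y] (e : X ≃* Y) (h : Heis X) : Heis Y where
  cen := by
    intro z hz1 hz2 a b ha hb
    have key := h.cen (e.symm z) (fun h1 => hz1 (e.symm.injective (h1.trans (map_one _).symm)))
      (by rw [← map_mul, hz2, map_one]) (e.symm a) (e.symm b) (by rw [← map_mul, ha, map_mul])
      (by rw [← map_mul, hb, map_mul])
    constructor
    · intro c hc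
      have h1 := key.1 (e.symm c) (by rw [← map_mul, hc, map_mul])
      simp only [← map_mul, ← map_inv] at h1
      exact e.symm.injective h1
    · have h1 := key.2
      simp only [← map_mul, ← map_inv] at h1
      exact e.symm.injective (h1.trans (map_one _).symm)
  mov := by
    intro i h1 h2
    obtain ⟨t, ht1, ht2, ht3⟩ := h.mov (e.symm i)
      (fun h3 => h1 (e.symm.injective (by rw [map_mul, h3, map_one])))
      (by rw [← map_mul, ← map_mul, h2, map_one])
    refine ⟨e t, ?_, ?_, ?_⟩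
    · apply e.symm.injective
      simp only [map_mul, e.symm_apply_apply]
      exact ht1
    · intro h3
      apply ht2
      have h4 := congrArg e.symm h3
      simp only [map_mul, map_inv, map_one, e.symm_apply_apply] at h4
      exact h4
    · intro h3
      apply ht3
      have h4 := congrArg e.symm h3
      simp only [map_mul, map_inv, e.symm_apply_apply] at h4
      exact h4

/-- no member in a group with `Heis` -/
theorem false_of_heis {X : Type*} [Group X] [Finite X] (hX : Heis X) {K : Subgroup X} (h : Hyp (cls K)) : False := by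
  have hK := self_mem_cls K
  obtain ⟨Q, hQ⟩ := Hyp.exists_syl K
  obtain ⟨c, v, n, hgq⟩ := h.exists_gq hK hQ
  obtain ⟨y, hy, -, hyv⟩ := hgq.exists_inverting hgq.v_mem hgq.orderOf_v
  have hzz := h.zz_mul hK
  have hz1 := h.zz_ne hK
  have hvz : v * v = zz K := hgq.v_sq
  have hcz : ∀ k ∈ K, k * zz K = zz K * k := fun k hk =>
    mem_centralizer_singleton_iff.1 (h.le_centralizer hK hk)
  -- `[y, v] = z`
  have hyvz : y * v * y⁻¹ * v⁻¹ = zz K := by
    rw [hyv, ← mul_inv_rev, hvz, h.zz_inv hK]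
  -- `C(z)` normalises `K`
  have hn : ∀ u, u * zz K = zz K * u → cj u K = K := by
    intro u hu
    have hzu : zz (cj u K) = zz K := by
      rw [h.zz_cj hK, hu, mul_inv_cancel_right]
    rcases h.h2 K hK (cj u K) ⟨u, rfl⟩ hzu.symm with h1 | h1
    · exact h1.symm
    · exfalso
      have h2 : y * (u * v * u⁻¹) * y⁻¹ * (u * v * u⁻¹)⁻¹ ∈ ⁅K, cj u K⁆ :=
        commutator_mem_commutator (hQ.1 hy) (conj_mem_cj (hQ.1 hgq.v_mem))
      obtain ⟨d, hd⟩ : ∃ d, d = u * v * u⁻¹ * v⁻¹ := ⟨_, rfl⟩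
      have h3 : u * v * u⁻¹ = d * v := by rw [hd]; group
      have h4 : d * y = y * d := by
        rw [hd]
        exact (hX.cen (zz K) hz1 hzz u v hu (hcz v (hQ.1 hgq.v_mem))).1 y (hcz y (hQ.1 hy))
      have h5 : y * (d * v) * y⁻¹ * (d * v)⁻¹ = zz K := by
        have h6 : d * zz K = zz K * d := by
          have h8 : d ∈ centralizer ({zz K} : Set X) := by
            rw [hd]
            have hu' := mem_centralizer_singleton_iff.2 hu
            have hv' := mem_centralizer_singleton_iff.2 (hcz v (hQ.1 hgq.v_mem))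
            exact mul_mem (mul_mem (mul_mem hu' hv') (inv_mem hu')) (inv_mem hv')
          exact mem_centralizer_singleton_iff.1 h8
        calc y * (d * v) * y⁻¹ * (d * v)⁻¹ = (y * d) * v * y⁻¹ * v⁻¹ * d⁻¹ := by group
          _ = (d * y) * v * y⁻¹ * v⁻¹ * d⁻¹ := by rw [h4]
          _ = d * (y * v * y⁻¹ * v⁻¹) * d⁻¹ := by group
          _ = d * zz K * d⁻¹ := by rw [hyvz]
          _ = zz K := by rw [h6, mul_inv_cancel_right]
      rw [h3, h5] at h2
      have h7 := (h1 h2).1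
      have h8 : orderOf (zz K) ∣ Nat.card (OO K) := by
        have h9 := orderOf_dvd_natCard (⟨zz K, h7⟩ : OO K)
        rwa [Subgroup.orderOf_mk] at h9
      rw [h.orderOf_zz hK] at h8
      exact odd_OO K h8
  obtain ⟨t, ht1, ht2, ht3⟩ := hX.mov v (by rw [hvz]; exact hz1) (by rw [hvz]; exact hzz)
  rw [hvz] at ht1 ht3
  obtain ⟨d, hd⟩ : ∃ d, d = t * v * t⁻¹ * v⁻¹ := ⟨_, rfl⟩
  have hdK : d ∈ K := by
    rw [hd]
    have h1 : t * v * t⁻¹ ∈ cj t K := conj_mem_cj (hQ.1 hgq.v_mem)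
    rw [hn t ht1] at h1
    exact mul_mem h1 (inv_mem (hQ.1 hgq.v_mem))
  have hdd : d * d = 1 := by
    rw [hd]
    exact (hX.cen (zz K) hz1 hzz t v ht1 (hcz v (hQ.1 hgq.v_mem))).2
  rw [← hd] at ht2 ht3
  exact ht3 (h.eq_zz hK hdK hdd ht2)

/-! ### `PSL(3,4)` -/

section psl

open Cfsg.Agent.SporadicA.FieldFour Cfsg.Agent.ONType.Psl Cfsg.Agent.StdL34.PslCent Cfsg.Agent.StdLThreeFour.Base
open Cfsg.Agent.StdLThreeFour.Facts1

theorem heis_PSL3 : Heis L0 := by
  have hcen : ∀ g : L0, g * t 0 2 1 = t 0 2 1 * g → ∃ a b c, g = e a b c := fun g hg => (cent_t02 g).1 hg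
  have conj_comm : ∀ (l x y : L0), x * y = y * x → (l * x * l⁻¹) * (l * y * l⁻¹) = (l * y * l⁻¹) * (l * x * l⁻¹) := by
    intro l x y hxy
    calc (l * x * l⁻¹) * (l * y * l⁻¹) = l * (x * y) * l⁻¹ := by group
      _ = l * (y * x) * l⁻¹ := by rw [hxy]
      _ = _ := by group
  refine ⟨?_, ?_⟩
  · intro z hz1 hz2 a b ha hb
    obtain ⟨l, hl⟩ := inv_conj hz1 hz2
    have ha' := conj_comm l a z ha
    have hb' := conj_comm l b z hb
    rw [hl] at ha' hb'
    obtain ⟨a1, a2, a3, hae⟩ := hcen _ ha'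
    obtain ⟨b1, b2, b3, hbe⟩ := hcen _ hb'
    have h1 : l * (a * b * a⁻¹ * b⁻¹) * l⁻¹ = e 0 0 (b1 * a2 + a1 * b2) := by
      rw [← e_comm a1 a2 a3 b1 b2 b3, ← hae, ← hbe]
      group
    constructor
    · intro c hc
      have hc' := conj_comm l c z hc
      rw [hl] at hc'
      obtain ⟨c1, c2, c3, hce⟩ := hcen _ hc'
      have h2 : l * (a * b * a⁻¹ * b⁻¹ * c) * l⁻¹ = l * (c * (a * b * a⁻¹ * b⁻¹)) * l⁻¹ := by
        calc l * (a * b * a⁻¹ * b⁻¹ * c) * l⁻¹ = (l * (a * b * a⁻¹ * b⁻¹) * l⁻¹) * (l * c * l⁻¹) := by group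
          _ = (l * c * l⁻¹) * (l * (a * b * a⁻¹ * b⁻¹) * l⁻¹) := by
              rw [h1, hce]
              refine (comm_iff _ _ _ _ _ _).2 ?_
              rw [mul_zero, zero_mul, add_zero]
          _ = l * (c * (a * b * a⁻¹ * b⁻¹)) * l⁻¹ := by group
      exact mul_left_cancel (mul_right_cancel h2)
    · have h2 : l * (a * b * a⁻¹ * b⁻¹ * (a * b * a⁻¹ * b⁻¹)) * l⁻¹ = l * 1 * l⁻¹ := by
        calc l * (a * b * a⁻¹ * b⁻¹ * (a * b * a⁻¹ * b⁻¹)) * l⁻¹ =
            (l * (a * b * a⁻¹ * b⁻¹) * l⁻¹) * (l * (a * b * a⁻¹ * b⁻¹) * l⁻¹) := by group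
          _ = 1 := by rw [h1, e_sq, zero_mul, e_zero]
          _ = l * 1 * l⁻¹ := by group
      exact mul_left_cancel (mul_right_cancel h2)
  · intro i h1 h2
    obtain ⟨l, hl⟩ := inv_conj h1 h2
    have hi' := conj_comm l i (i * i) (by rw [mul_assoc])
    rw [hl] at hi'
    obtain ⟨a, b, c, hie⟩ := hcen _ hi'
    have hab : a * b = 1 := by
      have h3 : e a b c * e a b c = t 0 2 1 := by
        rw [← hl, ← hie]; group
      rw [e_sq, ← e_02] at h3
      exact (e_inj h3).2.2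
    have hb : ∃ w : F4, a * w ≠ 0 ∧ a * w ≠ 1 := by
      revert hab
      revert a b
      intro a b _ hab
      have : ∀ a b : F4, a * b = 1 → ∃ w : F4, a * w ≠ 0 ∧ a * w ≠ 1 := by decide
      exact this a b hab
    obtain ⟨w, hw0, hw1⟩ := hb
    have key : e 0 w 0 * (l * i * l⁻¹) * (e 0 w 0)⁻¹ * (l * i * l⁻¹)⁻¹ = e 0 0 (a * w) := by
      rw [hie, e_comm]
      simp
    refine ⟨l⁻¹ * e 0 w 0 * l, ?_, ?_, ?_⟩
    · have h3 : e 0 w 0 * t 0 2 1 = t 0 2 1 * e 0 w 0 := by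
        rw [← e_02]
        refine (comm_iff _ _ _ _ _ _).2 ?_
        simp
      rw [← hl] at h3
      calc l⁻¹ * e 0 w 0 * l * (i * i) = l⁻¹ * (e 0 w 0 * (l * (i * i) * l⁻¹)) * l := by group
        _ = l⁻¹ * (l * (i * i) * l⁻¹ * e 0 w 0) * l := by rw [h3]
        _ = i * i * (l⁻¹ * e 0 w 0 * l) := by group
    · intro h3
      have h4 : l * (l⁻¹ * e 0 w 0 * l * i * (l⁻¹ * e 0 w 0 * l)⁻¹ * i⁻¹) * l⁻¹ = e 0 0 (a * w) := by
        rw [← key]; group
      rw [h3, mul_one, mul_inv_cancel, ← e_zero] at h4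
      exact hw0 (e_inj h4).2.2.symm
    · intro h3
      have h4 : l * (l⁻¹ * e 0 w 0 * l * i * (l⁻¹ * e 0 w 0 * l)⁻¹ * i⁻¹) * l⁻¹ = e 0 0 (a * w) := by
        rw [← key]; group
      rw [h3, hl, ← e_02] at h4
      exact hw1 (e_inj h4).2.2.symm

theorem heis_psl {X : Type*} [Group X] {F : Type*} [Field F] [Fintype F] (hF : Fintype.card F = 4)
    (e : Nonempty (X ≃* Matrix.ProjectiveSpecialLinearGroup (Fin 3) F)) : Heis X := by
  obtain ⟨e⟩ := e
  obtain ⟨f⟩ := nonempty_psl_equiv (n := Fin 3) F hF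
  exact heis_PSL3.congr (f.trans e.symm)

end psl

/-- **`L₃(4)`** -/
theorem lthree {G : Type*} [Group G] [Finite G] {K : Subgroup G} (w : AssemblyNil.W3 G K)
    (h : ∃ (F : Type) (_ : Field F) (_ : Fintype F), Fintype.card F = 4 ∧
      Nonempty (↥(generalizedFittingSubgroup G) ≃* Matrix.ProjectiveSpecialLinearGroup (Fin 3) F)) : False := by
  obtain ⟨F, i, j, hF, e⟩ := h
  obtain ⟨K0, h0, -, -⟩ := exists_down w.toFS (Cfsg.Agent.StdL3.OuterFacts.facts_of_psl hF e).cube w.hyp w.nil w.c3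
  exact false_of_heis (heis_psl hF e) h0

end Cfsg.Agent.Cit.Nil.Unbal
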