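import Cfsg.Agent.Cit.Nil.LO.LThreeQ
import Cfsg.Agent.Cit.Nil.ROne.Bridge
import Cfsg.Agent.ONType.PslCard

/-!
# S1309, `F*(G) = L₃(4)`, members of arbitrary order

* `LG X` : two noncentral involutions `a`, `a'` of `C(z)`, with elementary abelian centralisers in `C(z)`, such that
  `C(z)`, `C(a)`, `C(a')` generate `X`; elements of `C(z)` have order dividing 4;
* `core_bot` : `O(C_G(z)) = 1` for the involutions `z ∈ F*(G) = L₃(4)`;
* `lthree_false_nil` : no member, if the members are 2-nilpotent.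
-/

set_option autoImplicit false
set_option linter.style.haveILetI false
set_option linter.unusedSectionVars false

namespace Cfsg.Agent.Cit.Nil.Unbal.LThreeN

open Subgroup Cfsg Cit Cfsg.Agent.Cit.Nil Cfsg.Agent.Cit.Nil.LO.LThreeQ

/-- an involution of `C(z)` with elementary abelian centraliser in `C(z)` -/
structure NC {X : Type*} [Group X] (z a : X) : Prop where
  ne : a ≠ 1
  sq : a * a = 1
  comm : a * z = z * a
  el : ∀ b, b * z = z * b → b * a = a * b → b * b = 1

theorem NC.map {X Y : Type*} [Group X] [Group Y] (e : X ≃* Y) {z a : X} (h : NC z a) : NC (e z) (e a) where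
  ne h1 := h.ne (e.injective (h1.trans (map_one e).symm))
  sq := by rw [← map_mul, h.sq, map_one]
  comm := by rw [← map_mul, h.comm, map_mul]
  el b hb1 hb2 := by
    apply e.symm.injective
    rw [map_mul, map_one]
    refine h.el _ ?_ ?_
    · apply e.injective
      simpa using hb1
    · apply e.injective
      simpa using hb2

/-- see the head of the file -/
structure LG (X : Type*) [Group X] : Prop extends LF X where
  exp : ∀ z : X, z ≠ 1 → z * z = 1 → ∀ a, a * z = z * a → a * a * (a * a) = 1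
  gen : ∀ z : X, z ≠ 1 → z * z = 1 → ∃ a a', NC z a ∧ NC z a' ∧ ∀ M : Subgroup X, (∀ b, b * z = z * b → b ∈ M) →
    (∀ b, b * a = a * b → b ∈ M) → (∀ b, b * a' = a' * b → b ∈ M) → M = ⊤

theorem LG.congr {X Y : Type*} [Group X] [Group Y] (e : X ≃* Y) (h : LG X) : LG Y where
  toLF := h.toLF.congr e
  exp := by
    intro z hz1 hz2 a ha
    have h1 := h.exp (e.symm z) (fun h3 => hz1 (e.symm.injective (h3.trans (map_one _).symm)))
      (by rw [← map_mul, hz2, map_one]) (e.symm a) (by rw [← map_mul, ha, map_mul])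
    apply e.symm.injective
    simpa using h1
  gen := by
    intro z hz1 hz2
    obtain ⟨a, a', h1, h2, h3⟩ := h.gen (e.symm z) (fun h3 => hz1 (e.symm.injective (h3.trans (map_one _).symm)))
      (by rw [← map_mul, hz2, map_one])
    have h1' := h1.map e
    have h2' := h2.map e
    rw [e.apply_symm_apply] at h1' h2'
    refine ⟨e a, e a', h1', h2', fun M e1 e2 e3 => ?_⟩
    have h4 := h3 (M.comap e.toMonoidHom) ?_ ?_ ?_
    · rw [eq_top_iff]
      intro x _
      have h5 : e.symm x ∈ M.comap e.toMonoidHom := by rw [h4]; exact mem_top _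
      have h6 : e (e.symm x) ∈ M := h5
      rwa [e.apply_symm_apply] at h6
    · intro b hb
      refine e1 (e b) ?_
      apply e.symm.injective
      simpa using hb
    · intro b hb
      exact e2 (e b) (by rw [← map_mul, hb, map_mul])
    · intro b hb
      exact e3 (e b) (by rw [← map_mul, hb, map_mul])

section psl

open Cfsg.Agent.SporadicA.FieldFour Cfsg.Agent.ONType.Psl Cfsg.Agent.StdL34.PslCent Cfsg.Agent.StdLThreeFour.Base
open Cfsg.Agent.StdLThreeFour.Facts1

theorem nc_of {z l : L0} (hl : l * z * l⁻¹ = t 0 2 1) {u w : F4} (huv : u * w = 0) (hne : u ≠ 0 ∨ w ≠ 0) :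
    NC z (l⁻¹ * e u w 0 * l) := by
  have hz : z = l⁻¹ * t 0 2 1 * l := by rw [← hl]; group
  have conj_mul : ∀ x y : L0, l⁻¹ * x * l * (l⁻¹ * y * l) = l⁻¹ * (x * y) * l := fun x y => by group
  refine ⟨?_, ?_, ?_, ?_⟩
  · intro h1
    have h2 : e u w 0 = 1 := by
      calc e u w 0 = l * (l⁻¹ * e u w 0 * l) * l⁻¹ := by group
        _ = 1 := by rw [h1, mul_one, mul_inv_cancel]
    rcases hne with h3 | h3
    · exact h3 (e_one h2).1
    · exact h3 (e_one h2).2.1
  · rw [conj_mul, e_sq, huv, e_zero, mul_one, inv_mul_cancel]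
  · rw [hz, conj_mul, conj_mul, ← e_02, (comm_iff u w 0 0 0 1).2 (by rw [zero_mul, mul_zero, add_zero])]
  · intro b hb1 hb2
    have h1 : l * b * l⁻¹ * t 0 2 1 = t 0 2 1 * (l * b * l⁻¹) := by
      rw [← hl]
      calc l * b * l⁻¹ * (l * z * l⁻¹) = l * (b * z) * l⁻¹ := by group
        _ = l * (z * b) * l⁻¹ := by rw [hb1]
        _ = l * z * l⁻¹ * (l * b * l⁻¹) := by group
    obtain ⟨b1, b2, b3, hbe⟩ := (cent_t02 _).1 h1
    have hbe' : l * b * l⁻¹ = e b1 b2 b3 := hbe
    have h2 : e b1 b2 b3 * e u w 0 = e u w 0 * e b1 b2 b3 := by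
      rw [← hbe']
      calc l * b * l⁻¹ * e u w 0 = l * (b * (l⁻¹ * e u w 0 * l)) * l⁻¹ := by group
        _ = l * (l⁻¹ * e u w 0 * l * b) * l⁻¹ := by rw [hb2]
        _ = e u w 0 * (l * b * l⁻¹) := by group
    have h3 := (comm_iff _ _ _ _ _ _).1 h2
    have h5 : b1 * b2 = 0 := by
      rcases mul_eq_zero.1 huv with h6 | h6
      · rw [h6, zero_mul, zero_add] at h3
        rcases hne with h7 | h7
        · exact absurd h6 h7
        · rw [(mul_eq_zero.1 h3).resolve_right h7, zero_mul]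
      · rw [h6, mul_zero, add_zero] at h3
        rcases hne with h7 | h7
        · rw [(mul_eq_zero.1 h3).resolve_left h7, mul_zero]
        · exact absurd h6 h7
    have h4 : l * (b * b) * l⁻¹ = 1 := by
      calc l * (b * b) * l⁻¹ = (l * b * l⁻¹) * (l * b * l⁻¹) := by group
        _ = 1 := by rw [hbe', e_sq, h5, e_zero]
    calc b * b = l⁻¹ * (l * (b * b) * l⁻¹) * l := by group
      _ = 1 := by rw [h4, mul_one, inv_mul_cancel]

theorem lg_PSL3 : LG L0 where
  toLF := lf_PSL3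
  exp := by
    intro z hz1 hz2 a ha
    obtain ⟨l, hl⟩ := inv_conj hz1 hz2
    have h1 : l * a * l⁻¹ * t 0 2 1 = t 0 2 1 * (l * a * l⁻¹) := by
      rw [← hl]
      calc l * a * l⁻¹ * (l * z * l⁻¹) = l * (a * z) * l⁻¹ := by group
        _ = l * (z * a) * l⁻¹ := by rw [ha]
        _ = l * z * l⁻¹ * (l * a * l⁻¹) := by group
    obtain ⟨b1, b2, b3, hbe⟩ := (cent_t02 _).1 h1
    have hbe' : l * a * l⁻¹ = e b1 b2 b3 := hbe
    have h4 : l * (a * a * (a * a)) * l⁻¹ = 1 := by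
      calc l * (a * a * (a * a)) * l⁻¹ = (l * a * l⁻¹) * (l * a * l⁻¹) * ((l * a * l⁻¹) * (l * a * l⁻¹)) := by group
        _ = 1 := by rw [hbe', e_sq, e_sq, zero_mul, e_zero]
    calc a * a * (a * a) = l⁻¹ * (l * (a * a * (a * a)) * l⁻¹) * l := by group
      _ = 1 := by rw [h4, mul_one, inv_mul_cancel]
  gen := by
    intro z hz1 hz2
    obtain ⟨l, hl⟩ := inv_conj hz1 hz2
    refine ⟨l⁻¹ * e 1 0 0 * l, l⁻¹ * e 0 1 0 * l, nc_of hl (mul_zero _) (Or.inl one_ne_zero),
      nc_of hl (zero_mul _) (Or.inr one_ne_zero), ?_⟩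
    intro M h1 h2 h3
    have hz : z = l⁻¹ * t 0 2 1 * l := by rw [← hl]; group
    have conj_mul : ∀ x y : L0, l⁻¹ * x * l * (l⁻¹ * y * l) = l⁻¹ * (x * y) * l := fun x y => by group
    -- the root elements are in `l M l⁻¹`
    have k1 : ∀ b, b * t 0 2 1 = t 0 2 1 * b → l⁻¹ * b * l ∈ M := by
      intro b hb
      apply h1
      rw [hz, conj_mul, conj_mul, hb]
    have k2 : ∀ b, b * e 1 0 0 = e 1 0 0 * b → l⁻¹ * b * l ∈ M := by
      intro b hb
      apply h2
      rw [conj_mul, conj_mul, hb]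
    have k3 : ∀ b, b * e 0 1 0 = e 0 1 0 * b → l⁻¹ * b * l ∈ M := by
      intro b hb
      apply h3
      rw [conj_mul, conj_mul, hb]
    have r02 : ∀ c, l⁻¹ * t 0 2 c * l ∈ M := by
      intro c
      apply k1
      rw [← e_02, ← e_02]
      exact (comm_iff _ _ _ _ _ _).2 (by rw [zero_mul, add_zero])
    have r01 : ∀ c, l⁻¹ * t 0 1 c * l ∈ M := by
      intro c
      apply k1
      rw [← e_01, ← e_02]
      exact (comm_iff _ _ _ _ _ _).2 (by rw [zero_mul, mul_zero, add_zero])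
    have r12 : ∀ c, l⁻¹ * t 1 2 c * l ∈ M := by
      intro c
      apply k1
      rw [← e_12, ← e_02]
      exact (comm_iff _ _ _ _ _ _).2 (by rw [zero_mul, mul_zero, add_zero])
    have r21 : ∀ c, l⁻¹ * t 2 1 c * l ∈ M := by
      intro c
      apply k2
      rw [e_01]
      exact t_col 2 1 0 c 1 (by decide) (by decide)
    have r10 : ∀ c, l⁻¹ * t 1 0 c * l ∈ M := by
      intro c
      apply k3
      rw [e_12]
      exact t_row 1 0 2 c 1 (by decide) (by decide)
    have r20 : ∀ c, l⁻¹ * t 2 0 c * l ∈ M := by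
      intro c
      have h4 := t_sum 2 0 1 c 1 (by decide) (by decide) (by decide)
      rw [mul_one] at h4
      have h5 : l⁻¹ * t 2 0 c * l = (l⁻¹ * t 2 1 c * l)⁻¹ * (l⁻¹ * t 1 0 1 * l)⁻¹ * (l⁻¹ * t 2 1 c * l) *
          (l⁻¹ * t 1 0 1 * l) := by
        calc l⁻¹ * t 2 0 c * l = l⁻¹ * ((t 1 0 1 * t 2 1 c)⁻¹ * (t 1 0 1 * t 2 1 c * t 2 0 c)) * l := by group
          _ = l⁻¹ * ((t 1 0 1 * t 2 1 c)⁻¹ * (t 2 1 c * t 1 0 1)) * l := by rw [← h4]
          _ = _ := by group
      rw [h5]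
      exact M.mul_mem (M.mul_mem (M.mul_mem (M.inv_mem (r21 c)) (M.inv_mem (r10 1))) (r21 c)) (r10 1)
    have h4 : (⊤ : Subgroup L0) ≤ cj l M := by
      rw [← Cfsg.Agent.ONType.PslCard.closure_t, closure_le]
      rintro _ ⟨i, j, hij, c, rfl⟩
      change _ ∈ cj l M
      rw [mem_cj]
      fin_cases i <;> fin_cases j
      · exact absurd rfl hij
      · exact r01 c
      · exact r02 c
      · exact r10 c
      · exact absurd rfl hij
      · exact r12 c
      · exact r20 c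
      · exact r21 c
      · exact absurd rfl hij
    rw [eq_top_iff]
    intro x _
    have h5 := h4 (mem_top (l * x * l⁻¹))
    rwa [conj_mem_cj_iff] at h5

theorem lg_psl {X : Type*} [Group X] {F : Type*} [Field F] [Fintype F] (hF : Fintype.card F = 4)
    (e : Nonempty (X ≃* Matrix.ProjectiveSpecialLinearGroup (Fin 3) F)) : LG X := by
  obtain ⟨e⟩ := e
  obtain ⟨f⟩ := nonempty_psl_equiv (n := Fin 3) F hF
  exact lg_PSL3.congr (f.trans e.symm)

end psl

/-! ### `O(C_G(z)) = 1` -/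

section core

variable {G : Type*} [Group G] [Finite G] {F : Subgroup G} {a b c t z : G}

/-- the centralisers of `c` -/
theorem comm_of (hN : F.Normal) (lg : LG F) (hz : z ∈ F) (hc : Odd (orderOf c))
    (hcT : ∀ b ∈ F, b * z = z * b → c * b = b * c) {a : F} (ha : NC (⟨z, hz⟩ : F) a) :
    ∀ t : F, t * a = a * t → c * t = t * c := by
  intro t hta
  have haz : (a : G) * z = z * a := congrArg Subtype.val ha.comm
  have hta' : (t : G) * a = a * t := congrArg Subtype.val hta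
  have hca := hcT a a.2 haz
  obtain ⟨hd1, -⟩ := lg.cen a ha.ne ha.sq t ⟨z, hz⟩ hta ha.comm.symm
  obtain ⟨d, hd⟩ : ∃ d, d = (t : G) * z * (t : G)⁻¹ * z⁻¹ := ⟨_, rfl⟩
  have hdz : d * z = z * d := by
    have h1 := congrArg Subtype.val (hd1 ⟨z, hz⟩ ha.comm.symm)
    rw [hd]
    exact h1
  have hdF : d ∈ F := by
    rw [hd]
    exact F.mul_mem (F.mul_mem (F.mul_mem t.2 hz) (F.inv_mem t.2)) (F.inv_mem hz)
  have hcd := hcT d hdF hdz
  have hcz := hcT z hz rfl
  have htz : (t : G) * z * (t : G)⁻¹ = d * z := by rw [hd]; group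
  obtain ⟨u, hu⟩ : ∃ u, u = (t : G)⁻¹ * (c * t * c⁻¹) := ⟨_, rfl⟩
  have huF : u ∈ F := by
    rw [hu]
    exact F.mul_mem (F.inv_mem t.2) (hN.conj_mem t t.2 c)
  have hctc : c * t * c⁻¹ = t * u := by rw [hu]; group
  have hta'' : (t : G)⁻¹ * a = a * (t : G)⁻¹ := by
    rw [inv_mul_eq_iff_eq_mul, ← mul_assoc, hta', mul_inv_cancel_right]
  have hca' : c⁻¹ * (a : G) = a * c⁻¹ := by
    rw [inv_mul_eq_iff_eq_mul, ← mul_assoc, hca, mul_inv_cancel_right]
  have hua : u * a = a * u := by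
    rw [hu]
    calc (t : G)⁻¹ * (c * t * c⁻¹) * a = (t : G)⁻¹ * (c * t * (c⁻¹ * a)) := by group
      _ = (t : G)⁻¹ * (c * (t * a) * c⁻¹) := by rw [hca']; group
      _ = (t : G)⁻¹ * (c * a * t * c⁻¹) := by rw [hta']; group
      _ = (t : G)⁻¹ * a * (c * t * c⁻¹) := by rw [hca]; group
      _ = a * ((t : G)⁻¹ * (c * t * c⁻¹)) := by rw [hta'']; group
  have huz : u * z = z * u := by
    have h1 : c * t * c⁻¹ * z * (c * t * c⁻¹)⁻¹ = t * z * (t : G)⁻¹ := by
      have h2 : c⁻¹ * z = z * c⁻¹ := by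
        rw [inv_mul_eq_iff_eq_mul, ← mul_assoc, hcz, mul_inv_cancel_right]
      calc c * t * c⁻¹ * z * (c * t * c⁻¹)⁻¹ = c * t * (c⁻¹ * z) * c * (t : G)⁻¹ * c⁻¹ := by group
        _ = c * (t * z * (t : G)⁻¹) * c⁻¹ := by rw [h2]; group
        _ = (c * d) * z * c⁻¹ := by rw [htz]; group
        _ = d * (c * z) * c⁻¹ := by rw [hcd]; group
        _ = d * z := by rw [hcz]; group
        _ = t * z * (t : G)⁻¹ := htz.symm
    rw [hctc] at h1
    have h3 : u * z * u⁻¹ = z := by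
      calc u * z * u⁻¹ = (t : G)⁻¹ * (t * u * z * (t * u)⁻¹) * t := by group
        _ = (t : G)⁻¹ * (t * z * (t : G)⁻¹) * t := by rw [h1]
        _ = z := by group
    exact mul_inv_eq_iff_eq_mul.1 h3
  have hu2 : u * u = 1 := congrArg Subtype.val (ha.el ⟨u, huF⟩ (Subtype.ext huz) (Subtype.ext hua))
  have hcu := hcT u huF huz
  -- `c²` commutes with `t`
  have h1 : c * (c * t * c⁻¹) * c⁻¹ = t := by
    rw [hctc]
    calc c * (t * u) * c⁻¹ = (c * t * c⁻¹) * (c * u) * c⁻¹ := by group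
      _ = t * u * u := by rw [hctc, hcu]; group
      _ = t := by rw [mul_assoc, hu2, mul_one]
  have h2 : Commute (c ^ 2) (t : G) := by
    have h3 : c ^ 2 * t * (c ^ 2)⁻¹ = t := by
      calc c ^ 2 * t * (c ^ 2)⁻¹ = c * (c * t * c⁻¹) * c⁻¹ := by rw [pow_two]; group
        _ = t := h1
    exact mul_inv_eq_iff_eq_mul.1 h3
  obtain ⟨m, hm⟩ := hc
  have h3 : c = (c ^ 2) ^ (m + 1) := by
    rw [← pow_mul, show 2 * (m + 1) = (2 * m + 1) + 1 by ring, pow_succ, ← hm, pow_orderOf_eq_one, one_mul]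
  rw [h3]
  exact (h2.pow_left _).eq

/-- **`O(C_G(z)) = 1`** for `z ∈ F` -/
theorem core_bot (hN : F.Normal) (hC : centralizer (F : Set G) = ⊥) (lg : LG F) (hz : z ∈ F) (hz1 : z ≠ 1)
    (hz2 : z * z = 1) : centralizerPPrimeCore 2 z = ⊥ := by
  rw [eq_bot_iff]
  intro c hc
  have hodd : Odd (Nat.card (centralizerPPrimeCore 2 z)) := by
    have h3 : Nat.card (centralizerPPrimeCore 2 z) = Nat.card (pPrimeCore 2 ↥(centralizer ({z} : Set G))) :=
      card_map_of_injective (Subgroup.subtype_injective _)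
    rw [h3]
    exact Nat.coprime_two_right.mp (Lib.Cores.pPrimeCore_coprime 2)
  have hn : ∀ c : G, c * z = z * c → ∀ i ∈ centralizerPPrimeCore 2 z, c * i * c⁻¹ ∈ centralizerPPrimeCore 2 z := by
    rintro c hc _ ⟨x, hx, rfl⟩
    exact ⟨_, (Lib.Cores.pPrimeCore_normal 2).conj_mem x hx ⟨c, mem_centralizer_singleton_iff.2 hc⟩, rfl⟩
  have hcv : ∀ i ∈ centralizerPPrimeCore 2 z, i * z = z * i := by
    rintro _ ⟨x, -, rfl⟩
    exact mem_centralizer_singleton_iff.1 x.2
  have ho : ∀ x ∈ centralizerPPrimeCore 2 z, Odd (orderOf x) := by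
    intro x hx
    have h4 : orderOf (⟨x, hx⟩ : centralizerPPrimeCore 2 z) ∣ Nat.card (centralizerPPrimeCore 2 z) :=
      orderOf_dvd_natCard _
    rw [Subgroup.orderOf_mk] at h4
    exact Odd.of_dvd_nat hodd h4
  have hcT : ∀ b ∈ F, b * z = z * b → c * b = b * c := by
    intro b hb hbz
    have h1 : c * b * c⁻¹ * b⁻¹ ∈ centralizerPPrimeCore 2 z := by
      have h2 := hn b hbz _ (inv_mem hc)
      have h3 := mul_mem hc h2
      have h4 : c * (b * c⁻¹ * b⁻¹) = c * b * c⁻¹ * b⁻¹ := by group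
      rwa [h4] at h3
    have h2 : c * b * c⁻¹ * b⁻¹ ∈ F := F.mul_mem (hN.conj_mem b hb c) (F.inv_mem hb)
    obtain ⟨x, hx⟩ : ∃ x, x = c * b * c⁻¹ * b⁻¹ := ⟨_, rfl⟩
    rw [← hx] at h1 h2
    have h3 : x * x * (x * x) = 1 := congrArg Subtype.val (lg.exp ⟨z, hz⟩ (fun h => hz1 (congrArg Subtype.val h))
      (Subtype.ext hz2) ⟨x, h2⟩ (Subtype.ext (hcv x h1)))
    have h4 : orderOf x ∣ 2 ^ 2 := by
      apply orderOf_dvd_of_pow_eq_one
      rw [← h3]
      simp only [pow_succ, pow_zero, one_mul, mul_assoc]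
      norm_num
      simp only [pow_succ, pow_zero, one_mul, mul_assoc]
    have h5 : x = 1 := by
      rw [← orderOf_eq_one_iff]
      exact Nat.eq_one_of_dvd_coprimes (a := 2 ^ 2) (b := orderOf x) (Nat.Coprime.pow_left 2 (by
        rw [Nat.coprime_comm, Nat.coprime_two_right]; exact ho x h1)) h4 dvd_rfl
    rw [hx, mul_inv_eq_one, mul_inv_eq_iff_eq_mul] at h5
    exact h5
  obtain ⟨a, a', h1, h2, h3⟩ := lg.gen ⟨z, hz⟩ (fun h => hz1 (congrArg Subtype.val h)) (Subtype.ext hz2)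
  have e1 := comm_of hN lg hz (ho c hc) hcT h1
  have e2 := comm_of hN lg hz (ho c hc) hcT h2
  have h4 := h3 ((centralizer ({c} : Set G)).subgroupOf F) ?_ ?_ ?_
  · have h5 : c ∈ centralizer (F : Set G) := by
      rw [mem_centralizer_iff]
      intro x hx
      have h6 : (⟨x, hx⟩ : F) ∈ (centralizer ({c} : Set G)).subgroupOf F := by rw [h4]; exact mem_top _
      rw [mem_subgroupOf, mem_centralizer_singleton_iff] at h6
      exact h6
    rwa [hC] at h5
  · intro b hb
    rw [mem_subgroupOf, mem_centralizer_singleton_iff]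
    exact (hcT b b.2 (congrArg Subtype.val hb)).symm
  · intro b hb
    rw [mem_subgroupOf, mem_centralizer_singleton_iff]
    exact (e1 b hb).symm
  · intro b hb
    rw [mem_subgroupOf, mem_centralizer_singleton_iff]
    exact (e2 b hb).symm

end core

/-- **`F*(G) = L₃(4)`**, 2-nilpotent members of arbitrary order -/
theorem lthree_false_nil {G : Type*} [Group G] [Finite G] {Om : Set (Subgroup G)} (h : Hyp Om)
    (hn : ∀ K ∈ Om, NilK K) {K : Subgroup G} (hK : K ∈ Om) (fs : AssemblyNil.FS G)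
    (hL : ∃ (F : Type) (_ : Field F) (_ : Fintype F), Fintype.card F = 4 ∧
      Nonempty (↥(generalizedFittingSubgroup G) ≃* Matrix.ProjectiveSpecialLinearGroup (Fin 3) F)) : False := by
  have hL' := hL
  obtain ⟨F, i, j, hF, e⟩ := hL
  refine lthree_false h ?_ hK fs hL'
  intro L hLO
  -- `z_L ∈ F*(G)`
  obtain ⟨Q, hQ⟩ := Hyp.exists_syl L
  obtain ⟨c, v, n, hgq⟩ := h.exists_gq hLO hQ
  obtain ⟨x, hx, -, hxv⟩ := hgq.exists_inverting hgq.v_mem hgq.orderOf_v
  have h1 : x * v * x⁻¹ * v⁻¹ = zz L := by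
    rw [hxv, ← mul_inv_rev, hgq.v_sq, h.zz_inv hLO]
  have hzF : zz L ∈ generalizedFittingSubgroup G := by
    refine mem_fstar fs (Cfsg.Agent.StdL3.OuterFacts.facts_of_psl hF e).cube ?_ ?_
    · rw [← h1]
      exact commutator_mem_commutator (mem_top x) (mem_top v)
    · have h2 := h.zz_mul hLO
      calc zz L ^ 4 = (zz L * zz L) * (zz L * zz L) := by simp only [pow_succ, pow_zero, one_mul, mul_assoc]
        _ = 1 := by rw [h2, one_mul]
  have hO := ROne.OO_eq_bot h hLO (core_bot (Lib.GenFitting.genFitting_normal (G := G))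
    (End.centralizer_fstar fs.simple fs.na) (lg_psl hF e) hzF (h.zz_ne hLO) (h.zz_mul hLO))
  have h2 := hn L hLO Q hQ
  rw [hO, bot_sup_eq] at h2
  exact hQ.2.1.to_le h2

end Cfsg.Agent.Cit.Nil.Unbal.LThreeN
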