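import Cfsg.Agent.Cit.Nil.Unbal.LThree
import Cfsg.Agent.Cit.Nil.Unbal.Alt
import Cfsg.Agent.Cit.Nil.Unbal.Held

/-!
# S1309, unbalanced groups: `UnbalStmt`
-/

set_option autoImplicit false

namespace Cfsg.Agent.Cit.Nil.Unbal.Main

universe u

/-- **`UnbalStmt`** : `A_n`, `L₃(4)` and `He` do not occur in the world `W3` -/
theorem unbal : AssemblyNil.UnbalStmt.{u} := by
  intro G _ _ K w h
  rcases h with h | h | h
  · exact Alt.alt w h
  · exact lthree w h
  · exact Held.held w h

end Cfsg.Agent.Cit.Nil.Unbal.Main
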